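import Cfsg.Agent.Lib.SmallGroups.OrdersMidSieve

/-!
# The arithmetical sieve for orders of simple groups between 1092 and 3640
-/

set_option autoImplicit false

namespace CfsgLib.SmallGroups.OrdersLow

open CfsgLib.SmallGroups.OrdersMid (surviveMid)

/-- The orders surviving the sieve. -/
def survivors : List ℕ :=
  [1200, 1224, 1232, 1260, 1344, 1400, 1404, 1440, 1512, 1560, 1620, 1680, 1716, 1764, 1800, 1920, 1980, 2016, 2080, 2100, 2160, 2268, 2400, 2448, 2464, 2520, 2688, 2700, 2800, 2808, 2880, 2940, 2976, 3024, 3080, 3120, 3168, 3240, 3360, 3420, 3432, 3444, 3528, 3600]

theorem survive_block0 : ((List.range 250).all fun i =>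
    !surviveMid (1093 + i) || survivors.contains (1093 + i)) = true := by
  decide +kernel

theorem survive_block1 : ((List.range 250).all fun i =>
    !surviveMid (1343 + i) || survivors.contains (1343 + i)) = true := by
  decide +kernel

theorem survive_block2 : ((List.range 250).all fun i =>
    !surviveMid (1593 + i) || survivors.contains (1593 + i)) = true := by
  decide +kernel

theorem survive_block3 : ((List.range 250).all fun i =>
    !surviveMid (1843 + i) || survivors.contains (1843 + i)) = true := by
  decide +kernel

theorem survive_block4 : ((List.range 250).all fun i =>
    !surviveMid (2093 + i) || survivors.contains (2093 + i)) = true := by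
  decide +kernel

theorem survive_block5 : ((List.range 250).all fun i =>
    !surviveMid (2343 + i) || survivors.contains (2343 + i)) = true := by
  decide +kernel

theorem survive_block6 : ((List.range 250).all fun i =>
    !surviveMid (2593 + i) || survivors.contains (2593 + i)) = true := by
  decide +kernel

theorem survive_block7 : ((List.range 250).all fun i =>
    !surviveMid (2843 + i) || survivors.contains (2843 + i)) = true := by
  decide +kernel

theorem survive_block8 : ((List.range 250).all fun i =>
    !surviveMid (3093 + i) || survivors.contains (3093 + i)) = true := by
  decide +kernel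

theorem survive_block9 : ((List.range 250).all fun i =>
    !surviveMid (3343 + i) || survivors.contains (3343 + i)) = true := by
  decide +kernel

theorem survive_block10 : ((List.range 48).all fun i =>
    !surviveMid (3593 + i) || survivors.contains (3593 + i)) = true := by
  decide +kernel

theorem survive_low (n : ℕ) (h1 : 1092 < n) (h2 : n ≤ 3640) (h : surviveMid n = true) : n ∈ survivors := by
  have key : ∀ a l : ℕ, ((List.range l).all fun i => !surviveMid (a + i) || survivors.contains (a + i)) = true →
      a ≤ n → n < a + l → n ∈ survivors := by
    intro a l hall ha hl
    rw [List.all_eq_true] at hall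
    have := hall (n - a) (List.mem_range.mpr (by omega))
    rw [show a + (n - a) = n by omega, h] at this
    simpa using this
  by_cases h3 : n < 1343
  · exact key _ _ survive_block0 (by omega) (by omega)
  by_cases h4 : n < 1593
  · exact key _ _ survive_block1 (by omega) (by omega)
  by_cases h5 : n < 1843
  · exact key _ _ survive_block2 (by omega) (by omega)
  by_cases h6 : n < 2093
  · exact key _ _ survive_block3 (by omega) (by omega)
  by_cases h7 : n < 2343
  · exact key _ _ survive_block4 (by omega) (by omega)
  by_cases h8 : n < 2593
  · exact key _ _ survive_block5 (by omega) (by omega)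
  by_cases h9 : n < 2843
  · exact key _ _ survive_block6 (by omega) (by omega)
  by_cases h10 : n < 3093
  · exact key _ _ survive_block7 (by omega) (by omega)
  by_cases h11 : n < 3343
  · exact key _ _ survive_block8 (by omega) (by omega)
  by_cases h12 : n < 3593
  · exact key _ _ survive_block9 (by omega) (by omega)
  exact key _ _ survive_block10 (by omega) (by omega)

end CfsgLib.SmallGroups.OrdersLow
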