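import Cfsg.Agent.Lib.SmallGroups.OrdersLow.Cases2
import Cfsg.Agent.Lib.SmallGroups.OrdersLow.Sieve
import Cfsg.Agent.Lib.SmallGroups.OrdersMidSieve
import Cfsg.Agent.Lib.Perm.ZGroup.Simple
import Cfsg.Agent.S0144
import Cfsg.Agent.S0499
import Cfsg.Agent.S0073
import Cfsg.Agent.S0997
import Cfsg.Agent.S0998
import Cfsg.Agent.S0999
import Cfsg.Agent.S1015
import Cfsg.Agent.S1016
import Cfsg.Agent.S1017
import Cfsg.Agent.S4501

/-!
# The orders of simple groups between 1092 and 3640
-/

set_option autoImplicit false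

namespace CfsgLib.SmallGroups.OrdersLow

open Subgroup CfsgLib.SmallGroups.SimpleTools CfsgLib.SmallGroups.LocalTools CfsgLib.SmallGroups.OrdersMid
  CfsgLib.SmallGroups.OrdersBelow1092

variable {G : Type*} [Group G] [Finite G] [IsSimpleGroup G] (hG : ¬ IsMulCommutative G)

theorem card_psl_of_card {F : Type} [Field F] [Fintype F] {q : ℕ} (hF : Fintype.card F = q)
    (e : G ≃* Matrix.ProjectiveSpecialLinearGroup (Fin 2) F) :
    Nat.gcd 2 (q - 1) * Nat.card G = q * ((q - 1) * (q + 1)) := by
  rw [Nat.card_congr e.toEquiv, ← hF]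
  exact CfsgLib.Perm.ZGroup.card_psl2_gcd

include hG

theorem exists_ne_comm : ∃ x y : G, x * y ≠ y * x := by
  by_contra hc
  push Not at hc
  exact hG ⟨⟨hc⟩⟩

theorem not_cyclic : ¬ IsCyclic G := fun h => hG h.isMulCommutative

theorem false_of_four (p q a b : ℕ) (hp : p.Prime) (hq : q.Prime) (hpq : p ≠ q) (ha : a ≤ 2)
    (hn : Nat.card G = 4 * p ^ a * q ^ b) (h60 : 60 < Nat.card G) : False := by
  obtain ⟨e⟩ := (Cfsg.Agent.S4501.result (exists_ne_comm hG) p q a b hp hq hpq ha).1 hn
  have h := two_mul_nat_card_alternatingGroup (α := Fin 5)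
  rw [← Nat.card_congr e.toEquiv, Nat.card_perm, Nat.card_fin, show Nat.factorial 5 = 120 from rfl] at h
  omega

theorem false_of_three (p q a b : ℕ) (hp : p.Prime) (hq : q.Prime) (hpq : p ≠ q) (ha : a ≤ 2)
    (hn : Nat.card G = 3 * p ^ a * q ^ b) (h168 : 168 < Nat.card G) : False := by
  rcases (Cfsg.Agent.S4501.result (exists_ne_comm hG) p q a b hp hq hpq ha).2 hn with ⟨⟨e⟩⟩ | ⟨⟨e⟩⟩
  · have h := two_mul_nat_card_alternatingGroup (α := Fin 5)
    rw [← Nat.card_congr e.toEquiv, Nat.card_perm, Nat.card_fin, show Nat.factorial 5 = 120 from rfl] at h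
    omega
  · haveI : Fact (Nat.Prime 7) := ⟨by norm_num⟩
    have h := card_psl_of_card (q := 7) (ZMod.card 7) e
    norm_num at h
    omega

theorem false_of_three_two (p a b : ℕ) [Fact p.Prime] (hp2 : p ≠ 2) (hp3 : p ≠ 3) (hpos : 0 < p)
    (hn : Nat.card G = p * 3 ^ a * 2 ^ b)
    (key : ∀ n ∈ ((3 ^ a * 2 ^ b).divisors.filter (fun n => n % p = 1)).erase 1, ∀ e ∈ (p - 1).divisors,
      n * e ≠ 3 ^ a * 2 ^ b ∨ e = 1) : False := by
  have hp : p.Prime := Fact.out
  have hnd : ¬ p ∣ 3 ^ a * 2 ^ b := fun h => by
    rcases (Nat.Prime.dvd_mul hp).1 h with h | h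
    · exact hp3 ((Nat.prime_dvd_prime_iff_eq hp Nat.prime_three).1 (hp.dvd_of_dvd_pow h))
    · exact hp2 ((Nat.prime_dvd_prime_iff_eq hp Nat.prime_two).1 (hp.dvd_of_dvd_pow h))
  obtain ⟨P, e, k, hP, he1, hed, hek, hN, hC⟩ :=
    prime_order_setup hG (p := p) (m := 3 ^ a * 2 ^ b) (by rw [hn]; ring) hnd rfl
  obtain ⟨x, hxP, hxp⟩ := exists_mem_of_dvd (q := p) (P : Subgroup G) (by rw [hP])
  have hk : k = 1 := by
    have hz := (TwoClass.zpowers_eq_sylow P hP hxP (fun h => by rw [h, orderOf_one] at hxp; exact hp.one_lt.ne hxp)).2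
    have h := Cfsg.Agent.S1001.result p a b hp hn x hxp
    rw [← TwoClass.centralizer_zpowers, hz] at h
    rw [h, hP] at hC
    exact Nat.eq_of_mul_eq_mul_left hpos (by rw [mul_one]; exact hC.symm)
  subst hk
  rw [mul_one] at hek
  have h1 := sylow_count hG (p := p) (k := 1) (m := 3 ^ a * 2 ^ b) (by rw [hn]; ring) (by positivity) one_ne_zero
  rcases key _ h1 e (Nat.mem_divisors.mpr ⟨hed, by have := hp.two_le; omega⟩) with h | h
  · exact h hek
  · exact he1 h

theorem ne_1716 (hn : Nat.card G = 1716) : False := by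
  rcases Cfsg.Agent.S0999.result (not_cyclic hG) 13 (by norm_num) (by rw [hn]; norm_num) (by rw [hn]; norm_num) with
    ⟨F, _, _, hF, -, ⟨e⟩⟩ | ⟨m, F, _, _, -, h13, -⟩
  · have h := card_psl_of_card hF e
    rw [hn] at h
    norm_num at h
  · have hm : 2 ^ m = 12 := by omega
    rcases Nat.lt_or_ge m 4 with h | h
    · interval_cases m <;> norm_num at hm
    · have := Nat.pow_le_pow_right (show 0 < 2 by norm_num) h
      omega

theorem ne_2808 (hn : Nat.card G = 2808) : False := by
  rcases Cfsg.Agent.S0997.result (not_cyclic hG) 13 3 3 8 (by norm_num) Nat.prime_three (by norm_num)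
    (by rw [hn]; norm_num) (by norm_num) with
    ⟨m, F, _, _, hF, -, ⟨e⟩⟩ | ⟨m, F, _, _, -, h13, -⟩
  · have h := card_psl_of_card hF e
    rw [hn] at h
    norm_num at h
  · have hm : 2 ^ m = 12 := by omega
    rcases Nat.lt_or_ge m 4 with h | h
    · interval_cases m <;> norm_num at hm
    · have := Nat.pow_le_pow_right (show 0 < 2 by norm_num) h
      omega

theorem ne_1920 (hn : Nat.card G = 1920) : False := by
  rcases Cfsg.Agent.S0998.result (not_cyclic hG) 5 2 3 7 (by norm_num) Nat.prime_two Nat.prime_three (by norm_num)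
    (by norm_num) (by norm_num) (by rw [hn]; norm_num) with ⟨F, _, _, hF, ⟨e⟩⟩ | ⟨F, _, _, hF, ⟨e⟩⟩ <;>
  · have h := card_psl_of_card hF e
    rw [hn] at h
    norm_num at h

/-- A non-abelian simple group of order in `(1092, 3640]` has order `2448`, `2520` or `3420`. -/
theorem census (h1 : 1092 < Nat.card G) (h2 : Nat.card G ≤ 3640) :
    Nat.card G = 2448 ∨ Nat.card G = 2520 ∨ Nat.card G = 3420 := by
  classical
  open CfsgLib.SmallGroups.SimpleTools CfsgLib.SmallGroups.LocalTools CfsgLib.SmallGroups.OrdersMid in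
  have hn0 : Nat.card G ≠ 0 := Nat.card_pos.ne'
  have hnc : ∃ x y : G, x * y ≠ y * x := by
    by_contra hc
    push Not at hc
    exact hG ⟨⟨hc⟩⟩
  have hthree : 3 ≤ (Nat.card G).primeFactors.card := by
    by_contra hlt
    obtain ⟨p, q, a, b, hp, hq, he⟩ : ∃ p q a b : ℕ, p.Prime ∧ q.Prime ∧ Nat.card G = p ^ a * q ^ b := by
      have hprod := Nat.prod_factorization_pow_eq_self hn0
      rw [Nat.prod_factorization_eq_prod_primeFactors] at hprod
      have hc : (Nat.card G).primeFactors.card = 0 ∨ (Nat.card G).primeFactors.card = 1 ∨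
          (Nat.card G).primeFactors.card = 2 := by omega
      rcases hc with hc | hc | hc
      · exact ⟨2, 2, 0, 0, Nat.prime_two, Nat.prime_two, by
          rw [Finset.card_eq_zero.mp hc, Finset.prod_empty] at hprod; simpa using hprod.symm⟩
      · obtain ⟨p, hp⟩ := Finset.card_eq_one.mp hc
        refine ⟨p, p, (Nat.card G).factorization p, 0, ?_, ?_, ?_⟩
        · exact Nat.prime_of_mem_primeFactors (hp ▸ Finset.mem_singleton_self p)
        · exact Nat.prime_of_mem_primeFactors (hp ▸ Finset.mem_singleton_self p)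
        · rw [hp, Finset.prod_singleton] at hprod; simpa using hprod.symm
      · obtain ⟨p, q, hpq, hp⟩ := Finset.card_eq_two.mp hc
        refine ⟨p, q, (Nat.card G).factorization p, (Nat.card G).factorization q, ?_, ?_, ?_⟩
        · exact Nat.prime_of_mem_primeFactors (hp ▸ Finset.mem_insert_self p {q})
        · exact Nat.prime_of_mem_primeFactors (hp ▸ Finset.mem_insert_of_mem (Finset.mem_singleton_self q))
        · rw [hp, Finset.prod_pair hpq] at hprod; exact hprod.symm
    have := Cfsg.Agent.S0144.result p q a b hp hq he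
    exact hG ⟨⟨(IsSimpleGroup.comm_iff_isSolvable (G := G)).mpr this⟩⟩
  open CfsgLib.SmallGroups.SimpleTools CfsgLib.SmallGroups.LocalTools CfsgLib.SmallGroups.OrdersMid in
  have hsurv : surviveMid (Nat.card G) = true := by
    simp only [surviveMid, Bool.and_eq_true, decide_eq_true_eq, List.all_eq_true]
    refine ⟨⟨?_, hthree.trans (card_primeFactors_le_mid _ (by omega))⟩, fun p hp => ?_⟩
    · unfold preMid
      by_cases h2 : Nat.card G % 2 = 0
      · rw [if_pos (by simpa using h2)]
        rcases Cfsg.Agent.S0499.result hG (Nat.even_iff.mpr h2) with h' | h' | h' <;>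
          simp [Nat.mod_eq_zero_of_dvd h']
      · rw [if_neg (by simpa using h2)]
        have hd : (Nat.card G).minFac ^ 3 ∣ Nat.card G :=
          (Cfsg.Agent.S0073.result hnc).resolve_right fun h' =>
            h2 (Nat.mod_eq_zero_of_dvd ((show 2 ∣ 12 by norm_num).trans h'))
        have hne1 : Nat.card G ≠ 1 := fun e => by rw [e] at hthree; simp at hthree
        have hpr := Nat.minFac_prime hne1
        have hle := Nat.le_of_dvd Nat.card_pos hd
        have h11 : (Nat.card G).minFac < 19 := by
          by_contra hge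
          have := Nat.pow_le_pow_left (Nat.le_of_not_lt hge) 3
          omega
        have h3 : 3 ≤ (Nat.card G).minFac := by
          have := hpr.two_le
          rcases Nat.lt_or_ge (Nat.card G).minFac 3 with hl | hl
          · exact absurd (Nat.mod_eq_zero_of_dvd ((show (Nat.card G).minFac = 2 by omega) ▸
              Nat.minFac_dvd (Nat.card G))) h2
          · exact hl
        rw [List.any_eq_true]
        refine ⟨(Nat.card G).minFac, List.mem_range.mpr h11, ?_⟩
        simp only [Bool.and_eq_true, decide_eq_true_eq, beq_iff_eq]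
        exact ⟨h3, Nat.mod_eq_zero_of_dvd (by rw [pow_three, ← mul_assoc] at hd; exact hd)⟩
    · obtain ⟨hpp, hpd⟩ := prime_of_mem_mid hp
      have : Fact p.Prime := ⟨hpp⟩
      rw [goodMid, List.all_eq_true]
      intro a _
      simp only [Bool.or_eq_true, beq_iff_eq, Bool.not_eq_true', beq_eq_false_iff_ne]
      by_cases ha : a = 0
      · exact Or.inl (Or.inl (Or.inl ha))
      by_cases hda : Nat.card G % p ^ a = 0
      · by_cases hda1 : Nat.card G % p ^ (a + 1) = 0
        · exact Or.inl (Or.inr hda1)
        · refine Or.inr ?_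
          obtain ⟨m, hm⟩ := Nat.dvd_of_mod_eq_zero hda
          have hpm : ¬ p ∣ m := fun ⟨c, hc⟩ => hda1 (Nat.mod_eq_zero_of_dvd ⟨c, by rw [hm, hc]; ring⟩)
          have hm0 : m ≠ 0 := fun e => hpm (e ▸ dvd_zero p)
          have hmdiv : Nat.card G / p ^ a = m := by rw [hm, Nat.mul_div_cancel_left _ (pow_pos hpp.pos a)]
          rw [hmdiv, CfsgLib.SmallGroups.OrdersSieve.cands, List.any_eq_true]
          have hmem := card_sylow_mem (p := p) (k := a) hm hm0
          obtain ⟨hk1, hkmod⟩ := Finset.mem_filter.mp hmem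
          have hkd := (Nat.mem_divisors.mp hk1).1
          obtain ⟨P⟩ : Nonempty (Sylow p G) := inferInstance
          have hne := card_sylow_ne_one hG hpd (p := p)
          have hpos : 0 < Nat.card (Sylow p G) := Nat.card_pos
          have hfac : 2 * Nat.card G ∣ (Nat.card (Sylow p G)).factorial := by
            rw [P.card_eq_index_normalizer]
            exact two_mul_card_dvd_factorial hG _ (normalizer_ne_top hG hpd P)
          refine ⟨Nat.card (Sylow p G), List.mem_range.mpr (Nat.lt_succ_of_le (Nat.le_of_dvd (Nat.pos_of_ne_zero hm0) hkd)), ?_⟩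
          simp only [Bool.and_eq_true, decide_eq_true_eq, beq_iff_eq, Bool.or_eq_true, Bool.not_eq_true',
            beq_eq_false_iff_ne, List.any_eq_true, List.mem_range, CfsgLib.SmallGroups.OrdersSieve.fmod_eq]
          refine ⟨⟨⟨⟨by omega, Nat.mod_eq_zero_of_dvd hkd⟩, hkmod⟩, Nat.mod_eq_zero_of_dvd hfac⟩, ?_⟩
          by_cases ha1 : a = 1
          · refine Or.inr ?_
            subst ha1
            have hP : Nat.card (P : Subgroup G) = p :=
              (card_sylow_subgroup (k := 1) hm hpm P).trans (pow_one p)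
            obtain ⟨e, k, he1, hed, hN, -⟩ := exists_e hG P hP
            have hmul := card_normalizer_mul P
            have hdiv : Nat.card G / Nat.card (Sylow p G) = e * (p * k) := by
              rw [← hmul, Nat.mul_div_cancel_left _ hpos, hN]
            refine ⟨?_, e, ?_, ⟨⟨?_, Nat.mod_eq_zero_of_dvd hed⟩, ?_⟩⟩
            · by_cases hp2 : p = 2
              · exact Or.inl (Or.inl hp2)
              by_cases hsucc : Nat.card (Sylow p G) = p + 1
              · refine Or.inr (Nat.mod_eq_zero_of_dvd ?_)
                have := card_normalizer_of_succ hG hp2 P hP hsucc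
                rwa [hN, ← hdiv] at this
              · exact Or.inl (Or.inr hsucc)
            · have h2p := hpp.two_le
              have := Nat.le_of_dvd (by omega) hed
              omega
            · have he0 : e ≠ 0 := fun e0 => by
                rw [e0, zero_mul] at hN
                exact Nat.card_pos.ne' hN
              omega
            · rw [hdiv, show e * (p * k) = p * (e * k) by ring, Nat.mul_div_cancel_left _ hpp.pos,
                Nat.mul_mod_right]
          · exact Or.inl ha1
      · exact Or.inl (Or.inl (Or.inr hda))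
  have hcases := survive_low _ h1 h2 hsurv
  simp only [survivors, List.mem_cons, List.not_mem_nil, or_false] at hcases
  rcases hcases with e | e | e | e | e | e | e | e | e | e | e | e | e | e | e | e | e | e | e | e | e | e | e | e | e | e | e | e | e | e | e | e | e | e | e | e | e | e | e | e | e | e | e | e
  · exact absurd e Cfsg.Agent.S1015.result
  · have : Fact (Nat.Prime 17) := ⟨by norm_num⟩
    exact (CfsgLib.SmallGroups.OrdersMid.false_of_relation hG (p := 17) (m := 72) (by rw [e]) (by norm_num)
      (by norm_num) (by decide +kernel)).elim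
  · have : Fact (Nat.Prime 11) := ⟨by norm_num⟩
    exact (CfsgLib.SmallGroups.OrdersMid.false_of_relation hG (p := 11) (m := 112) (by rw [e]) (by norm_num)
      (by norm_num) (by decide +kernel)).elim
  · exact (ne_1260 hG e).elim
  · exact (false_of_three hG 7 2 1 6 (by norm_num) (by norm_num) (by norm_num) (by norm_num)
      (by rw [e]; norm_num) (by omega)).elim
  · have : Fact (Nat.Prime 7) := ⟨by norm_num⟩
    exact (CfsgLib.SmallGroups.OrdersMid.false_of_relation hG (p := 7) (m := 200) (by rw [e]) (by norm_num)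
      (by norm_num) (by decide +kernel)).elim
  · exact (false_of_four hG 13 3 1 3 (by norm_num) (by norm_num) (by norm_num) (by norm_num)
      (by rw [e]; norm_num) (by omega)).elim
  · exact absurd e Cfsg.Agent.S1016.result
  · exact (ne_1512 hG e).elim
  · have : Fact (Nat.Prime 13) := ⟨by norm_num⟩
    exact (CfsgLib.SmallGroups.OrdersMid.false_of_relation hG (p := 13) (m := 120) (by rw [e]) (by norm_num)
      (by norm_num) (by decide +kernel)).elim
  · exact (false_of_four hG 5 3 1 4 (by norm_num) (by norm_num) (by norm_num) (by norm_num)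
      (by rw [e]; norm_num) (by omega)).elim
  · exact (ne_1680 hG e).elim
  · exact (ne_1716 hG e).elim
  · have : Fact (Nat.Prime 7) := ⟨by norm_num⟩
    exact (CfsgLib.SmallGroups.OrdersMid.false_of_meet hG (p := 7) (m := 36) (a := 2) (by rw [e]; norm_num)
      (by norm_num) (by norm_num) 13 (by rw [e]; decide +kernel) (by decide +kernel) (by decide +kernel)).elim
  · exact (ne_1800 hG e).elim
  · exact (ne_1920 hG e).elim
  · exact (ne_1980 hG e).elim
  · exact absurd e Cfsg.Agent.S1017.result
  · have : Fact (Nat.Prime 13) := ⟨by norm_num⟩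
    exact (CfsgLib.SmallGroups.OrdersMid.false_of_relation hG (p := 13) (m := 160) (by rw [e]) (by norm_num)
      (by norm_num) (by decide +kernel)).elim
  · exact (ne_2100 hG e).elim
  · exact (ne_2160 hG e).elim
  · have : Fact (Nat.Prime 7) := ⟨by norm_num⟩
    exact (CfsgLib.SmallGroups.OrdersMid.false_of_relation hG (p := 7) (m := 324) (by rw [e]) (by norm_num)
      (by norm_num) (by decide +kernel)).elim
  · exact (false_of_three hG 5 2 2 5 (by norm_num) (by norm_num) (by norm_num) (by norm_num)
      (by rw [e]; norm_num) (by omega)).elim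
  · exact Or.inl e
  · have : Fact (Nat.Prime 7) := ⟨by norm_num⟩
    exact (CfsgLib.SmallGroups.OrdersMid.false_of_relation hG (p := 7) (m := 352) (by rw [e]) (by norm_num)
      (by norm_num) (by decide +kernel)).elim
  · exact Or.inr (Or.inl e)
  · exact (false_of_three hG 7 2 1 7 (by norm_num) (by norm_num) (by norm_num) (by norm_num)
      (by rw [e]; norm_num) (by omega)).elim
  · exact (false_of_four hG 5 3 2 3 (by norm_num) (by norm_num) (by norm_num) (by norm_num)
      (by rw [e]; norm_num) (by omega)).elim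
  · have : Fact (Nat.Prime 7) := ⟨by norm_num⟩
    exact (CfsgLib.SmallGroups.OrdersMid.false_of_relation hG (p := 7) (m := 400) (by rw [e]) (by norm_num)
      (by norm_num) (by decide +kernel)).elim
  · exact (ne_2808 hG e).elim
  · have : Fact (Nat.Prime 5) := ⟨by norm_num⟩
    exact (false_of_three_two hG 5 2 6 (by norm_num) (by norm_num) (by norm_num) (by rw [e]; norm_num)
      (by decide +kernel)).elim
  · have : Fact (Nat.Prime 7) := ⟨by norm_num⟩
    exact (CfsgLib.SmallGroups.OrdersMid.false_of_meet hG (p := 7) (m := 60) (a := 2) (by rw [e]; norm_num)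
      (by norm_num) (by norm_num) 13 (by rw [e]; decide +kernel) (by decide +kernel) (by decide +kernel)).elim
  · have : Fact (Nat.Prime 31) := ⟨by norm_num⟩
    exact (CfsgLib.SmallGroups.OrdersMid.false_of_relation hG (p := 31) (m := 96) (by rw [e]) (by norm_num)
      (by norm_num) (by decide +kernel)).elim
  · have : Fact (Nat.Prime 7) := ⟨by norm_num⟩
    exact (false_of_three_two hG 7 3 4 (by norm_num) (by norm_num) (by norm_num) (by rw [e]; norm_num)
      (by decide +kernel)).elim
  · have : Fact (Nat.Prime 7) := ⟨by norm_num⟩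
    exact (CfsgLib.SmallGroups.OrdersMid.false_of_relation hG (p := 7) (m := 440) (by rw [e]) (by norm_num)
      (by norm_num) (by decide +kernel)).elim
  · have : Fact (Nat.Prime 13) := ⟨by norm_num⟩
    exact (CfsgLib.SmallGroups.OrdersMid.false_of_relation hG (p := 13) (m := 240) (by rw [e]) (by norm_num)
      (by norm_num) (by decide +kernel)).elim
  · have : Fact (Nat.Prime 11) := ⟨by norm_num⟩
    exact (CfsgLib.SmallGroups.OrdersMid.false_of_relation hG (p := 11) (m := 288) (by rw [e]) (by norm_num)
      (by norm_num) (by decide +kernel)).elim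
  · have : Fact (Nat.Prime 5) := ⟨by norm_num⟩
    exact (false_of_three_two hG 5 4 3 (by norm_num) (by norm_num) (by norm_num) (by rw [e]; norm_num)
      (by decide +kernel)).elim
  · exact (ne_3360 hG e).elim
  · exact Or.inr (Or.inr e)
  · exact (ne_3432 hG e).elim
  · have : Fact (Nat.Prime 41) := ⟨by norm_num⟩
    exact (CfsgLib.SmallGroups.OrdersMid.false_of_relation hG (p := 41) (m := 84) (by rw [e]) (by norm_num)
      (by norm_num) (by decide +kernel)).elim
  · have : Fact (Nat.Prime 7) := ⟨by norm_num⟩
    exact (CfsgLib.SmallGroups.OrdersMid.false_of_meet hG (p := 7) (m := 72) (a := 2) (by rw [e]; norm_num)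
      (by norm_num) (by norm_num) 13 (by rw [e]; decide +kernel) (by decide +kernel) (by decide +kernel)).elim
  · exact (ne_3600 hG e).elim

end CfsgLib.SmallGroups.OrdersLow
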