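import Cfsg.Agent.Lib.SmallGroups.OrdersLow.Tools
import Cfsg.Agent.Lib.SmallGroups.InvertingInvolution
import Cfsg.Agent.Lib.SmallGroups.Order2520
import Cfsg.Agent.Lib.NumberTheory.SylowCount
import Cfsg.Agent.S1001

/-!
# Excluded orders between 1092 and 3640
-/

set_option autoImplicit false

namespace CfsgLib.SmallGroups.OrdersLow

open Subgroup CfsgLib.SmallGroups.SimpleTools CfsgLib.SmallGroups.LocalTools CfsgLib.SmallGroups.CosetFixed
  CfsgLib.SmallGroups.OrdersBelow1092 CfsgLib.SmallGroups.OrdersMid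

variable {G : Type*} [Group G] [Finite G]

/-- Two Sylow subgroups in a subgroup. -/
theorem card_sylow_ne_one_of_two {p : ℕ} [Fact p.Prime] (P R : Sylow p G) (hne : P ≠ R) {H : Subgroup G}
    (hP : (P : Subgroup G) ≤ H) (hR : (R : Subgroup G) ≤ H) : Nat.card (Sylow p H) ≠ 1 := by
  intro h
  have := (Nat.card_eq_one_iff_unique.mp h).1
  exact hne (Sylow.subtype_injective (hP := hP) (hQ := hR) (Subsingleton.elim _ _))

/-- With at most twelve `5'`-elements a Sylow `5`-subgroup of order 25 is not centralised by its normaliser. -/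
theorem not_normalizer_le_five {M : Type*} [Group M] [Finite M] [Fact (Nat.Prime 5)] {t : ℕ}
    (hM : Nat.card M = 25 * t) (ht : t = 6 ∨ t = 12) (hn : Nat.card (Sylow 5 M) ≠ 1) (P : Sylow 5 M) :
    ¬ normalizer ((P : Subgroup M) : Set M) ≤ centralizer ((P : Subgroup M) : Set M) := by
  intro h
  have hcompl := MonoidHom.ker_transferSylow_isComplement' P h
  set K := (MonoidHom.transferSylow P h).ker
  have h5K : ¬ 5 ∣ Nat.card K := MonoidHom.not_dvd_card_ker_transferSylow P h
  have htop : (P : Subgroup M) ⊔ K = ⊤ := by rw [sup_comm]; exact hcompl.sup_eq_top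
  have h2 := CfsgLib.NT.SylowCount.ordProj_modEq_of_coprime P K h5K htop Nat.prime_two
  have hmem := card_sylow_mem (G := M) (p := 5) (k := 2) (m := t) (by rw [hM]; norm_num) (by omega)
  have h6 : Nat.card (Sylow 5 M) = 6 := by
    have key : ∀ t ∈ ({6, 12} : Finset ℕ), ∀ n ∈ t.divisors.filter (fun n => n % 5 = 1), n = 1 ∨ n = 6 := by
      decide +kernel
    exact (key t (by rcases ht with rfl | rfl <;> simp) _ hmem).resolve_left hn
  rw [h6, show (6 : ℕ).factorization 2 = 1 by
    rw [show (6 : ℕ) = 2 * 3 by norm_num, Nat.factorization_mul (by norm_num) (by norm_num), Finsupp.add_apply,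
      Nat.prime_two.factorization_self, Nat.factorization_eq_zero_of_not_dvd (by norm_num)]] at h2
  exact absurd h2 (by decide)

theorem false_card150 {M : Type*} [Group M] [Finite M] [Fact (Nat.Prime 5)] (hM : Nat.card M = 150)
    (hn : Nat.card (Sylow 5 M) ≠ 1) : False := by
  obtain ⟨P⟩ : Nonempty (Sylow 5 M) := inferInstance
  refine not_normalizer_le_five (t := 6) (by rw [hM]) (Or.inl rfl) hn P ?_
  have hP : Nat.card (P : Subgroup M) = 5 ^ 2 :=
    card_sylow_subgroup (m := 6) (by rw [hM]; norm_num) (by norm_num) P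
  have hmem := card_sylow_mem (G := M) (p := 5) (k := 2) (m := 6) (by rw [hM]; norm_num) (by norm_num)
  have key : ∀ n ∈ (6 : ℕ).divisors.filter (fun n => n % 5 = 1), n = 1 ∨ n = 6 := by decide +kernel
  have hmul := card_normalizer_mul P
  rw [(key _ hmem).resolve_left hn, hM] at hmul
  have hNP : normalizer ((P : Subgroup M) : Set M) = (P : Subgroup M) :=
    (eq_of_le_of_card_ge le_normalizer (by rw [hP]; omega)).symm
  rw [hNP]
  exact fun a ha => mem_centralizer_iff.mpr fun b hb => congrArg Subtype.val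
    (IsPGroup.commutative_of_card_eq_prime_sq hP (⟨b, hb⟩ : (P : Subgroup M)) ⟨a, ha⟩)

/-- The only element of its order in a normalised subgroup generates a normalised subgroup. -/
theorem mem_normalizer_zpowers {p q : ℕ} [Fact p.Prime] [Fact q.Prime] (P : Sylow p G) {y : G}
    (hy : y ∈ centralizer ((P : Subgroup G) : Set G)) (hy' : orderOf y = q)
    (hu : Nat.card (Sylow q (centralizer ((P : Subgroup G) : Set G))) = 1)
    (hq : ∀ R : Sylow q (centralizer ((P : Subgroup G) : Set G)), Nat.card ((R : Subgroup (centralizer ((P : Subgroup G) : Set G)))) = q) :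
    normalizer ((P : Subgroup G) : Set G) ≤ normalizer ((zpowers y : Subgroup G) : Set G) := by
  intro g hg
  set C := centralizer ((P : Subgroup G) : Set G) with hC
  have hconj : ∀ z ∈ C, g * z * g⁻¹ ∈ C := fun z hz => by
    refine mem_centralizer_iff.mpr fun a ha => ?_
    have ha' : g⁻¹ * a * g ∈ (P : Subgroup G) := by
      have := (mem_normalizer_iff.mp (inv_mem hg) a).mp ha
      rwa [inv_inv] at this
    have h := mem_centralizer_iff.mp hz _ ha'
    calc a * (g * z * g⁻¹) = g * ((g⁻¹ * a * g) * z) * g⁻¹ := by group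
      _ = g * (z * (g⁻¹ * a * g)) * g⁻¹ := by rw [h]
      _ = g * z * g⁻¹ * a := by group
  obtain ⟨R, hR⟩ := TwoClass.exists_zpowers (y := (⟨y, hy⟩ : C)) (by rw [← orderOf_coe]; exact hy') hq
  obtain ⟨R', hR'⟩ := TwoClass.exists_zpowers (y := (⟨g * y * g⁻¹, hconj y hy⟩ : C))
    (by rw [← orderOf_coe]; exact ((MulAut.conj g).orderOf_eq y).trans hy') hq
  have := (Nat.card_eq_one_iff_unique.mp hu).1
  have he : zpowers (⟨g * y * g⁻¹, hconj y hy⟩ : C) = zpowers (⟨y, hy⟩ : C) := by
    rw [hR, hR', Subsingleton.elim R R']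
  have he' := congrArg (Subgroup.map C.subtype) he
  rw [MonoidHom.map_zpowers, MonoidHom.map_zpowers] at he'
  change zpowers (g * y * g⁻¹) = zpowers y at he'
  rw [mem_normalizer_iff]
  intro z
  constructor
  · intro hz
    obtain ⟨i, rfl⟩ := mem_zpowers_iff.mp hz
    rw [← conj_zpow]
    exact he' ▸ zpow_mem (mem_zpowers _) i
  · intro hz
    rw [← he'] at hz
    obtain ⟨i, hi⟩ := mem_zpowers_iff.mp hz
    rw [conj_zpow] at hi
    exact mem_zpowers_iff.mpr ⟨i, mul_left_cancel (mul_right_cancel hi)⟩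

/-- A central involution of a Sylow `2`-subgroup. -/
theorem exists_central_involution {a m : ℕ} (hcard : Nat.card G = 2 ^ a * m) (hm : ¬ 2 ∣ m) (ha : a ≠ 0) :
    ∃ s : G, orderOf s = 2 ∧ 2 ^ a ∣ Nat.card (centralizer ({s} : Set G)) := by
  have : Fact (Nat.Prime 2) := ⟨Nat.prime_two⟩
  obtain ⟨S⟩ : Nonempty (Sylow 2 G) := inferInstance
  have hS : Nat.card (S : Subgroup G) = 2 ^ a := card_sylow_subgroup hcard hm S
  haveI : Nontrivial (S : Subgroup G) := Finite.one_lt_card_iff_nontrivial.mp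
    (by rw [hS]; exact Nat.one_lt_two_pow ha)
  haveI := S.isPGroup'.center_nontrivial
  obtain ⟨z, hz⟩ := exists_prime_orderOf_dvd_card' (G := center (S : Subgroup G)) 2 (by
    obtain ⟨i, hi⟩ := IsPGroup.iff_card.mp (S.isPGroup'.to_subgroup (center (S : Subgroup G)))
    have h1 : 1 < Nat.card (center (S : Subgroup G)) := Finite.one_lt_card
    rw [hi] at h1 ⊢
    exact dvd_pow_self 2 (fun e => by rw [e] at h1; simp at h1))
  refine ⟨((z : (S : Subgroup G)) : G), by rw [orderOf_coe, orderOf_coe, hz], hS ▸ card_dvd_of_le ?_⟩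
  intro w hw
  exact mem_centralizer_singleton_iff.mpr (congrArg Subtype.val (mem_center_iff.mp z.2 ⟨w, hw⟩))

variable [IsSimpleGroup G] (hG : ¬ IsMulCommutative G)
include hG

/-- Orders with `25` where two Sylow `5`-subgroups would generate a group of order `150`. -/
theorem false_of_meet_150 [Fact (Nat.Prime 5)] {m : ℕ} (hn : Nat.card G = 5 ^ 2 * m) (hm : ¬ 5 ∣ m)
    (h36 : ¬ Nat.card (Sylow 5 G) ≡ 1 [MOD 5 ^ 2])
    (hb : ¬ 2 * Nat.card G ∣ (9 : ℕ).factorial)
    (key : ∀ i ∈ m.divisors, 9 < i → ∀ n ∈ (m / i).divisors, n % 5 = 1 → n = 1 ∨ m / i = 6) : False := by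
  obtain ⟨P, R, D, hne, -, -, -, hMt, hPM, hRM⟩ := exists_meet hG (p := 5) (m := m) (a := 2) hn hm le_rfl h36
  set M := normalizer (D : Set G)
  obtain ⟨n, hn1, hn5, hc, -, -⟩ := one_lt_count hG P R hne (hn ▸ dvd_mul_of_dvd_left (by norm_num) m) hPM hRM hMt
  have hidx := lt_of_index hG M hMt hb
  have hmul := M.index_mul_card
  rw [hn] at hmul
  have hd : 25 ∣ Nat.card ↥(M ⊓ normalizer ((P : Subgroup G) : Set G)) := by
    have := card_dvd_of_le (le_inf hPM (le_normalizer (H := (P : Subgroup G))))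
    rwa [card_sylow_subgroup hn hm P] at this
  obtain ⟨c, hc'⟩ := hd
  rw [hc'] at hc
  rw [hc] at hmul
  have hic : M.index * (n * c) = m := by linarith
  have hm0 : m ≠ 0 := fun e => hm (e ▸ dvd_zero 5)
  have hdiv : m / M.index = n * c := by
    rw [← hic, Nat.mul_div_cancel_left _ (Nat.pos_of_ne_zero index_ne_zero_of_finite)]
  have h6 := (key M.index (Nat.mem_divisors.mpr ⟨⟨_, hic.symm⟩, hm0⟩) hidx n (by
    rw [hdiv]
    exact Nat.mem_divisors.mpr ⟨dvd_mul_right n c, fun e => hm0 (by rw [← hic, e, mul_zero])⟩) hn5).resolve_left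
    (by omega)
  rw [hdiv] at h6
  exact false_card150 (M := M) (by rw [hc]; linarith) (card_sylow_ne_one_of_two P R hne hPM hRM)

theorem sylow_five_36 [Fact (Nat.Prime 5)] {m : ℕ} (hn : Nat.card G = 5 ^ 2 * m) (hm : ¬ 5 ∣ m)
    (key : ∀ n ∈ (m.divisors.filter (fun n => n % 5 = 1)).erase 1,
      2 * (5 ^ 2 * m) ∣ n.factorial → n % 25 ≠ 1) :
    ¬ Nat.card (Sylow 5 G) ≡ 1 [MOD 5 ^ 2] := fun h => by
  refine key _ (sylow_count hG hn (fun e => hm (e ▸ dvd_zero 5)) two_ne_zero) ?_ h
  rw [← hn]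
  exact embeds hG (p := 5) (hn ▸ dvd_mul_of_dvd_left (by norm_num) m)

theorem ne_1800 (hn : Nat.card G = 1800) : False := by
  have : Fact (Nat.Prime 5) := ⟨by norm_num⟩
  have h := sylow_five_36 hG (m := 72) (by rw [hn]; norm_num) (by norm_num) (by decide +kernel)
  exact false_of_meet_150 hG (m := 72) (by rw [hn]; norm_num) (by norm_num) h (by rw [hn]; decide +kernel)
    (by decide +kernel)

theorem ne_2100 (hn : Nat.card G = 2100) : False := by
  have : Fact (Nat.Prime 5) := ⟨by norm_num⟩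
  have h := sylow_five_36 hG (m := 84) (by rw [hn]; norm_num) (by norm_num) (by decide +kernel)
  exact false_of_meet_150 hG (m := 84) (by rw [hn]; norm_num) (by norm_num) h (by rw [hn]; decide +kernel)
    (by decide +kernel)

theorem ne_3600 (hn : Nat.card G = 3600) : False := by
  have : Fact (Nat.Prime 5) := ⟨by norm_num⟩
  have : Fact (Nat.Prime 2) := ⟨Nat.prime_two⟩
  have hcard : Nat.card G = 5 ^ 2 * 144 := by rw [hn]; norm_num
  have h := sylow_five_36 hG (m := 144) hcard (by norm_num) (by decide +kernel)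
  obtain ⟨P, R, D, hne, hDP, hDR, hD, hMt, hPM, hRM⟩ :=
    exists_meet hG (p := 5) (m := 144) (a := 2) hcard (by norm_num) le_rfl h
  set M := normalizer (D : Set G) with hMdef
  obtain ⟨n, hn1, hn5, hc, -, -⟩ := one_lt_count hG P R hne (by rw [hn]; norm_num) hPM hRM hMt
  have hidx := lt_of_index hG M hMt (b := 9) (by rw [hn]; decide +kernel)
  have hmul := M.index_mul_card
  rw [hn] at hmul
  set N := normalizer ((P : Subgroup G) : Set G) with hNdef
  set C := centralizer ((P : Subgroup G) : Set G) with hCdef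
  have hP : Nat.card (P : Subgroup G) = 5 ^ 2 := card_sylow_subgroup hcard (by norm_num) P
  have hPcomm : ∀ a ∈ (P : Subgroup G), ∀ b ∈ (P : Subgroup G), a * b = b * a := fun a ha b hb =>
    congrArg Subtype.val (IsPGroup.commutative_of_card_eq_prime_sq hP (⟨a, ha⟩ : (P : Subgroup G)) ⟨b, hb⟩)
  have hd : 25 ∣ Nat.card ↥(M ⊓ N) := by
    have := card_dvd_of_le (le_inf hPM (le_normalizer (H := (P : Subgroup G))))
    rwa [hP] at this
  obtain ⟨c, hc'⟩ := hd
  rw [hc'] at hc
  rw [hc] at hmul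
  have hic : M.index * (n * c) = 144 := by linarith
  have hnc : n = 6 ∧ (c = 1 ∨ c = 2) := by
    have h14 : n * c ≤ 14 := by
      have := Nat.mul_le_mul_right (n * c) (show 10 ≤ M.index from hidx)
      omega
    have hc0 : c ≠ 0 := fun e => by rw [e, mul_zero] at hic; omega
    have key : ∀ n ∈ Finset.range 15, ∀ c ∈ Finset.range 15, 1 < n → n % 5 = 1 → c ≠ 0 → n * c ≤ 14 →
        144 % (n * c) = 0 → n = 6 ∧ (c = 1 ∨ c = 2) := by decide +kernel
    have hn14 : n ≤ 14 := le_trans (Nat.le_mul_of_pos_right n (Nat.pos_of_ne_zero hc0)) h14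
    have hc14 : c ≤ 14 := le_trans (Nat.le_mul_of_pos_left c (by omega)) h14
    exact key n (Finset.mem_range.mpr (by omega)) c (Finset.mem_range.mpr (by omega)) hn1 hn5 hc0 h14
      (Nat.mod_eq_zero_of_dvd ⟨M.index, by rw [← hic]; ring⟩)
  obtain ⟨rfl, hc12⟩ := hnc
  have hne1 := card_sylow_ne_one_of_two P R hne hPM hRM
  rcases hc12 with rfl | rfl
  · exact false_card150 (M := M) (by rw [hc]) hne1
  -- the case of order `300`
  have hMN : Nat.card ↥(M ⊓ N) = 50 := hc'
  have hNdvd : 50 ∣ Nat.card N := hMN ▸ card_dvd_of_le inf_le_right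
  have hmulN := card_normalizer_mul P
  rw [hn, ← hNdef] at hmulN
  have hn36 : Nat.card (Sylow 5 G) = 36 := by
    have hmem := sylow_count hG (p := 5) (k := 2) (m := 144) hcard (by norm_num) two_ne_zero
    have he := embeds hG (p := 5) (by rw [hn]; norm_num)
    have key : ∀ n ∈ ((144 : ℕ).divisors.filter (fun n => n % 5 = 1)).erase 1, 7200 ∣ n.factorial →
        72 % n = 0 → n = 36 := by decide +kernel
    rw [hn] at he
    refine key _ hmem he (Nat.mod_eq_zero_of_dvd ?_)
    obtain ⟨j, hj⟩ := hNdvd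
    exact ⟨j, by rw [hj] at hmulN; linarith⟩
  -- an involution of `M ⊓ N` outside `C`
  obtain ⟨u, hu, hu2⟩ := exists_mem_of_dvd (q := 2) (M ⊓ N) (by rw [hMN]; norm_num)
  have huC : u ∉ C := by
    intro huC
    refine not_normalizer_le_five (M := M) (t := 12) (by rw [hc]) (Or.inr rfl) hne1 (P.subtype hPM) ?_
    have hall : M ⊓ N ≤ C := by
      have hsub : (P : Subgroup G) ≤ C ⊓ (M ⊓ N) :=
        le_inf (fun a ha => mem_centralizer_iff.mpr fun b hb => hPcomm b hb a ha) (le_inf hPM le_normalizer)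
      have h25 := card_dvd_of_le hsub
      rw [hP] at h25
      have h2 := Subgroup.orderOf_dvd_natCard (C ⊓ (M ⊓ N)) ⟨huC, hu⟩
      rw [hu2] at h2
      have h50 := Nat.Coprime.mul_dvd_of_dvd_of_dvd (by norm_num : Nat.Coprime (5 ^ 2) 2) h25 h2
      have he := eq_of_le_of_card_ge (inf_le_right : C ⊓ (M ⊓ N) ≤ M ⊓ N)
        (hMN.le.trans (Nat.le_of_dvd Nat.card_pos (by simpa using h50)))
      exact inf_eq_right.mp he
    intro z hz
    refine mem_centralizer_iff.mpr fun a ha => Subtype.ext ?_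
    have hzN : (z : G) ∈ N := by
      rw [hNdef, mem_normalizer_iff]
      intro b
      constructor
      · intro hb
        exact (mem_normalizer_iff.mp hz (⟨b, hPM hb⟩ : M)).mp hb
      · intro hb
        have hbM : b ∈ M := by
          have := M.mul_mem (M.mul_mem (M.inv_mem z.2) (hPM hb)) z.2
          simpa [mul_assoc] using this
        exact (mem_normalizer_iff.mp hz (⟨b, hbM⟩ : M)).mpr hb
    exact mem_centralizer_iff.mp (hall ⟨z.2, hzN⟩) (a : G) ha
  -- `M` centralises `D`
  have hDC : M ≤ centralizer (D : Set G) := by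
    set H := M ⊓ centralizer (D : Set G)
    have hle : ∀ Q : Sylow 5 G, D ≤ (Q : Subgroup G) → (Q : Subgroup G) ≤ M → (Q : Subgroup G) ≤ H := by
      intro Q hDQ hQM
      refine le_inf hQM fun a ha => mem_centralizer_iff.mpr fun b hb => ?_
      exact congrArg Subtype.val (IsPGroup.commutative_of_card_eq_prime_sq
        (card_sylow_subgroup hcard (by norm_num) Q) (⟨b, hDQ hb⟩ : (Q : Subgroup G)) ⟨a, ha⟩)
    have h25 := card_dvd_of_le (hle P hDP hPM)
    rw [hP] at h25
    obtain ⟨t, ht⟩ := h25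
    have hHM : H ≤ M := inf_le_left
    have ht12 : t ∣ 12 := by
      have := card_dvd_of_le hHM
      rw [ht, hc, show 6 * (25 * 2) = 5 ^ 2 * 12 by norm_num] at this
      exact Nat.dvd_of_mul_dvd_mul_left (by norm_num) this
    have hnH := card_sylow_ne_one_of_two P R hne (hle P hDP hPM) (hle R hDR hRM)
    have hmem := card_sylow_mem (G := H) (p := 5) (k := 2) (m := t) ht (fun e => by
      rw [e, mul_zero] at ht; exact Nat.card_pos.ne' ht)
    have key : ∀ t ∈ (12 : ℕ).divisors, ∀ n ∈ t.divisors.filter (fun n => n % 5 = 1), n ≠ 1 → t = 6 ∨ t = 12 := by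
      decide +kernel
    rcases key t (Nat.mem_divisors.mpr ⟨ht12, by norm_num⟩) _ hmem hnH with rfl | rfl
    · exact (false_card150 (M := H) (by rw [ht]; norm_num) hnH).elim
    · exact inf_eq_left.mp (eq_of_le_of_card_ge hHM (by rw [ht, hc]; norm_num))
  -- the fixed points of `u` in `P` are `D`
  have hD5 : Nat.card D = 5 := by omega
  have hfix : ∀ a ∈ (P : Subgroup G), a * u = u * a → a ∈ D := by
    intro a ha hau
    set F := (P : Subgroup G) ⊓ centralizer ({u} : Set G)
    have hDF : D ≤ F := le_inf hDP fun d hd =>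
      mem_centralizer_singleton_iff.mpr (mem_centralizer_iff.mp (hDC hu.1) d hd)
    have hFP : F ≠ (P : Subgroup G) := fun e => huC (mem_centralizer_iff.mpr fun b hb =>
      mem_centralizer_singleton_iff.mp ((inf_eq_left.mp e) hb))
    have hd : Nat.card F ∣ 5 ^ 2 := hP ▸ card_dvd_of_le inf_le_left
    obtain ⟨i, hi, hFi⟩ := (Nat.dvd_prime_pow (Fact.out : Nat.Prime 5)).mp hd
    have hF5 : Nat.card F ≤ Nat.card D := by
      rcases i with _ | _ | i
      · rw [hFi]; norm_num [hD5]
      · rw [hFi, hD5]; norm_num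
      · exfalso
        exact hFP (eq_of_le_of_card_ge inf_le_left (by rw [hFi, hP]; exact Nat.pow_le_pow_right (by norm_num) (by omega)))
    rw [eq_of_le_of_card_ge hDF hF5]
    exact ⟨ha, mem_centralizer_singleton_iff.mpr hau⟩
  -- commutators of `N` centralise `P`
  have hcomm : ∀ a ∈ N, ∀ b ∈ N, a * b * a⁻¹ * b⁻¹ ∈ C := by
    set C' := C.subgroupOf N with hC'
    haveI : C'.Normal := ⟨fun z hz g => by
      refine mem_subgroupOf.mpr (mem_centralizer_iff.mpr fun a ha => ?_)
      have hz' := mem_centralizer_iff.mp (mem_subgroupOf.mp hz)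
      have ha' : (g : G)⁻¹ * a * g ∈ (P : Subgroup G) := by
        have := (mem_normalizer_iff.mp (inv_mem g.2) a).mp ha
        rwa [inv_inv] at this
      calc a * ((g : G) * z * (g : G)⁻¹) = g * (((g : G)⁻¹ * a * g) * z) * (g : G)⁻¹ := by group
        _ = g * (z * ((g : G)⁻¹ * a * g)) * (g : G)⁻¹ := by rw [hz' _ ha']
        _ = g * z * (g : G)⁻¹ * a := by group⟩
    have hN100 : Nat.card N = 100 := by rw [hn36] at hmulN; omega
    have hq : Nat.card (N ⧸ C') ∣ 4 := by
      have h1 := C'.index_mul_card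
      have h2 : 25 ∣ Nat.card C' := by
        rw [Nat.card_congr (subgroupOfEquivOfLe (centralizer_le_normalizer _)).toEquiv]
        have := card_dvd_of_le (show (P : Subgroup G) ≤ C from
          fun a ha => mem_centralizer_iff.mpr fun b hb => hPcomm b hb a ha)
        rwa [hP] at this
      obtain ⟨j, hj⟩ := h2
      rw [hj, hN100] at h1
      rw [← Subgroup.index_eq_card]
      exact ⟨j, by linarith⟩
    intro a ha b hb
    have hcom : (QuotientGroup.mk (⟨a, ha⟩ : N) : N ⧸ C') * QuotientGroup.mk (⟨b, hb⟩ : N) =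
        QuotientGroup.mk (⟨b, hb⟩ : N) * QuotientGroup.mk (⟨a, ha⟩ : N) := by
      obtain ⟨i, hi, e⟩ := (Nat.dvd_prime_pow Nat.prime_two).mp (show Nat.card (N ⧸ C') ∣ 2 ^ 2 by simpa using hq)
      interval_cases i
      · have := (Nat.card_eq_one_iff_unique.mp (e.trans (pow_zero 2))).1
        exact Subsingleton.elim _ _
      · haveI := isCyclic_of_prime_card (α := N ⧸ C') (e.trans (pow_one 2))
        exact IsMulCommutative.is_comm.comm _ _
      · exact IsPGroup.commutative_of_card_eq_prime_sq e _ _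
    have h1 : ((⟨a, ha⟩ * ⟨b, hb⟩ * (⟨a, ha⟩ : N)⁻¹ * (⟨b, hb⟩ : N)⁻¹ : N) : N ⧸ C') = 1 := by
      simp only [QuotientGroup.mk_mul, QuotientGroup.mk_inv, hcom]
      group
    exact mem_subgroupOf.mp ((QuotientGroup.eq_one_iff _).mp h1)
  -- hence `N` normalises `D`
  have hNM : N ≤ M := by
    have hconj : ∀ g ∈ N, ∀ d ∈ D, g * d * g⁻¹ ∈ D := by
      intro g hg d hd
      have hgd : g * d * g⁻¹ ∈ (P : Subgroup G) := (mem_normalizer_iff.mp hg d).mp (hDP hd)
      refine hfix _ hgd ?_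
      have hdu : d * u = u * d := mem_centralizer_iff.mp (hDC hu.1) d hd
      have h1 : g * d * g⁻¹ * (g * u * g⁻¹) = g * u * g⁻¹ * (g * d * g⁻¹) := by
        calc g * d * g⁻¹ * (g * u * g⁻¹) = g * (d * u) * g⁻¹ := by group
          _ = g * (u * d) * g⁻¹ := by rw [hdu]
          _ = g * u * g⁻¹ * (g * d * g⁻¹) := by group
      set z := g * u * g⁻¹ * u⁻¹
      have hzc := mem_centralizer_iff.mp (hcomm g hg u hu.2) _ hgd
      have hz : u = z⁻¹ * (g * u * g⁻¹) := by simp only [z]; group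
      change Commute (g * d * g⁻¹) u
      rw [hz]
      exact (show Commute (g * d * g⁻¹) z from hzc).inv_right.mul_right h1
    intro g hg
    rw [hMdef, mem_normalizer_iff]
    intro d
    refine ⟨fun hd => hconj g hg d hd, fun hd => ?_⟩
    have := hconj g⁻¹ (inv_mem hg) _ hd
    simpa [mul_assoc] using this
  rw [inf_eq_right.mpr hNM] at hMN
  rw [hn36, hMN] at hmulN
  omega

theorem ne_1260 (hn : Nat.card G = 1260) : False := by
  have : Fact (Nat.Prime 7) := ⟨by norm_num⟩
  have : Fact (Nat.Prime 2) := ⟨Nat.prime_two⟩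
  have h1 := sylow_count hG (p := 7) (k := 1) (m := 180) (by rw [hn]; norm_num) (by norm_num) (by norm_num)
  rw [show ((Nat.divisors 180).filter (fun n => n % 7 = 1)).erase 1 = {15, 36} by decide +kernel] at h1
  simp only [Finset.mem_insert, Finset.mem_singleton] at h1
  obtain ⟨P, e, k, hP, he1, hed, hek, hN, hC⟩ :=
    prime_order_setup hG (p := 7) (m := 180) (by rw [hn]) (by norm_num) rfl
  have he6 : e ≤ 6 := Nat.le_of_dvd (by norm_num) hed
  rcases h1 with h1 | h1 <;> rw [h1] at hek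
  · obtain ⟨y, hy, hy2⟩ := exists_mem_of_dvd (q := 2) (centralizer ((P : Subgroup G) : Set G))
      (by rw [hC]; interval_cases e <;> omega)
    obtain ⟨f, -, h7, hlt, -, h4⟩ := exists_fixed hG P hP hy hy2
    have := h4 rfl
    omega
  · interval_cases e <;> omega

theorem ne_3432 (hn : Nat.card G = 3432) : False := by
  have : Fact (Nat.Prime 11) := ⟨by norm_num⟩
  have : Fact (Nat.Prime 2) := ⟨Nat.prime_two⟩
  have h1 := sylow_count hG (p := 11) (k := 1) (m := 312) (by rw [hn]; norm_num) (by norm_num) (by norm_num)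
  rw [show ((Nat.divisors 312).filter (fun n => n % 11 = 1)).erase 1 = {12, 78} by decide +kernel] at h1
  simp only [Finset.mem_insert, Finset.mem_singleton] at h1
  obtain ⟨P, e, k, hP, he1, hed, hek, hN, hC⟩ :=
    prime_order_setup hG (p := 11) (m := 312) (by rw [hn]) (by norm_num) rfl
  have he10 : e ≤ 10 := Nat.le_of_dvd (by norm_num) hed
  rcases h1 with h1 | h1 <;> rw [h1] at hek
  · have h3 := card_normalizer_of_succ hG (p := 11) (by norm_num) P hP h1
    rw [hN, show e * (11 * k) = 11 * (e * k) by ring, show e * k = 26 by omega] at h3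
    norm_num at h3
  obtain ⟨rfl, rfl⟩ : e = 2 ∧ k = 2 := by interval_cases e <;> omega
  obtain ⟨t, ht, ht2⟩ := exists_mem_of_dvd (q := 2) (centralizer ((P : Subgroup G) : Set G))
    (by rw [hC]; norm_num)
  obtain ⟨f, hf, h11, hlt, h2, h4⟩ := exists_fixed hG P hP ht ht2
  obtain ⟨n, h, hn11, hnlt, -, hH, h22, hhN, hdvd⟩ := centralizer_shape hG (by norm_num) P hP ht ht2
  have h4' := h4 rfl
  rw [h1] at hlt hnlt h4'
  rw [hn] at hdvd
  rw [hN] at hhN
  have hf34 : f = 34 := by omega
  have hmul := fixed_mul (normalizer ((P : Subgroup G) : Set G)) t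
  rw [← hf, hN, hf34, hH] at hmul
  have hd : n ∣ 156 :=
    Nat.dvd_of_mul_dvd_mul_right (show 0 < 11 * 2 by norm_num) ((Nat.mul_dvd_mul_left n h22).trans hdvd)
  have key : ∀ n ∈ (156 : ℕ).divisors, ∀ h ∈ (44 : ℕ).divisors, n % 11 = 1 → n < 78 → 22 ∣ h → n * h ∣ 3432 →
      n * h = 264 ∨ ¬ 8 ∣ n * h := by decide +kernel
  rcases key n (Nat.mem_divisors.mpr ⟨hd, by norm_num⟩) h (Nat.mem_divisors.mpr ⟨hhN, by norm_num⟩) hn11 hnlt h22
    hdvd with h264 | h8
  · rw [h264] at hmul
    omega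
  · exact false_of_small_centralizer_eight (m := 429) (by rw [hn]; norm_num) (by norm_num) ht2 (hH ▸ h8)

theorem ne_2160 (hn : Nat.card G = 2160) : False := by
  cases nonempty_fintype G
  have : Fact (Nat.Prime 5) := ⟨by norm_num⟩
  have h1 := sylow_count hG (p := 5) (k := 1) (m := 432) (by rw [hn]; norm_num) (by norm_num) (by norm_num)
  rw [show ((Nat.divisors 432).filter (fun n => n % 5 = 1)).erase 1 = {6, 16, 36, 216} by decide +kernel] at h1
  simp only [Finset.mem_insert, Finset.mem_singleton] at h1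
  obtain ⟨P, e, k, hP, he1, hed, hek, hN, hC⟩ :=
    prime_order_setup hG (p := 5) (m := 432) (by rw [hn]) (by norm_num) rfl
  have he4 : e ≤ 4 := Nat.le_of_dvd (by norm_num) hed
  have hk : k = 1 := by
    obtain ⟨x, hx, hx5⟩ := exists_mem_of_dvd (q := 5) (P : Subgroup G) (by rw [hP])
    have hz := (TwoClass.zpowers_eq_sylow P hP hx (fun h => by rw [h, orderOf_one] at hx5; omega)).2
    have h := Cfsg.Agent.S1001.result 5 3 4 (by norm_num) (by rw [hn]; norm_num) x hx5
    rw [← TwoClass.centralizer_zpowers, hz] at h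
    rw [h, hP] at hC
    omega
  subst hk
  obtain ⟨rfl, h216⟩ : e = 2 ∧ Nat.card (Sylow 5 G) = 216 := by
    rcases h1 with h1 | h1 | h1 | h1 <;> rw [h1] at hek ⊢ <;> interval_cases e <;> omega
  obtain ⟨d, hd2, hd, hd', hdd, hcong, hall⟩ :=
    inverted (G := G) hG (p := 5) (by norm_num) P hP (by rw [hN]) (by rw [hC])
  obtain ⟨s, hs, h16⟩ := exists_central_involution (G := G) (a := 4) (m := 135) (by rw [hn]; norm_num) (by norm_num)
    (by norm_num)
  obtain ⟨v, hv, hv4, -, heq⟩ := hall s hs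
  have hCd : Nat.card (centralizer ({s} : Set G)) ∣ 2160 := hn ▸ card_subgroup_dvd_card _
  rw [hn] at hd hd' hdd heq
  have hd46 : d < 47 := by nlinarith
  have key : ∀ d ∈ Finset.range 47, 2 ≤ d → d ∣ 2160 → d + 1 ∣ 2160 →
      ((5 : ℤ) ∣ (d : ℤ) - 1 ∨ (5 : ℤ) ∣ (d : ℤ) + 2) → d = 3 ∨ d = 8 := by decide +kernel
  have key2 : ∀ C ∈ (2160 : ℕ).divisors, 16 ∣ C → ∀ d ∈ ({3, 8} : Finset ℕ), ∀ j ∈ Finset.range 17,
      |(j : ℤ) - 8| < (d : ℤ) → (4 : ℤ) ∣ ((j : ℤ) - 8) - (d : ℤ) →
      (2160 : ℤ) * ((d : ℤ) - ((j : ℤ) - 8)) ^ 2 ≠ 5 * (C : ℤ) ^ 2 * d * (d + 1) := by decide +kernel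
  have hd38 := key d (Finset.mem_range.mpr hd46) hd2 hd hd' hcong
  rw [abs_lt] at hv
  have hj : ((v + 8).toNat : ℤ) - 8 = v := by rcases hd38 with rfl | rfl <;> omega
  refine key2 _ (Nat.mem_divisors.mpr ⟨hCd, by norm_num⟩) (by simpa using h16) d (by simpa using hd38)
    (v + 8).toNat (Finset.mem_range.mpr (by rcases hd38 with rfl | rfl <;> omega)) (by rw [hj, abs_lt]; exact hv)
    (by rw [hj]; exact hv4) ?_
  rw [hj]
  exact_mod_cast heq

end CfsgLib.SmallGroups.OrdersLow
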