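import Cfsg.Agent.Lib.KGroups.M11Values
import Cfsg.Agent.Lib.Char.InvertedOdd
import Cfsg.Agent.Lib.SmallGroups.OrdersMidCases

/-!
# Class equations at a self-centralising inverted Sylow subgroup of prime order
-/

set_option autoImplicit false

namespace CfsgLib.SmallGroups.OrdersLow

open Cfsg CfsgLib.Blocks CfsgLib.KGroups.M11Tools Subgroup CfsgLib.Char CfsgLib.SmallGroups
open scoped _root_.Classical ComplexConjugate

variable {G : Type*} [Group G] [Fintype G] [IsSimpleGroup G]

/-- The value at an involution is an integer congruent to the degree modulo four. -/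
theorem involution_value (hna : ¬ IsMulCommutative G) (χ : IrrCharacter G) {t : G} (ht : orderOf t = 2) :
    ∃ v : ℤ, (χ : G → ℂ) t = v ∧ (4 : ℤ) ∣ v - charDegree (χ : G → ℂ) := by
  obtain ⟨n, ρ, hρ, he⟩ := χ.2
  have hn : charDegree (χ : G → ℂ) = Module.finrank ℂ (Fin n → ℂ) := by
    apply Nat.cast_injective (R := ℂ)
    rw [← irr_one_eq, ← he, Representation.char_one]
  obtain ⟨b, μ, hμ, hb⟩ := CfsgLib.Char.exists_eigenbasis ρ t
  rw [ht] at hμ
  have hb1 : ∀ i, ρ t (b i) = μ i • b i := fun i => by simpa using hb 1 i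
  have hmat : LinearMap.toMatrix b b (ρ t) = Matrix.diagonal μ := by
    ext i j
    rw [LinearMap.toMatrix_apply, hb1, map_smul, Module.Basis.repr_self, Finsupp.smul_single, smul_eq_mul, mul_one,
      Finsupp.single_apply, Matrix.diagonal_apply]
    by_cases hij : i = j
    · subst hij; simp
    · simp [hij, Ne.symm hij]
  have hdet1 : LinearMap.det (ρ t) = 1 := by
    let φ : G →* ℂ := LinearMap.det.comp ρ
    have htop : φ.toHomUnits.ker = ⊤ := by
      refine ((inferInstance : φ.toHomUnits.ker.Normal).eq_bot_or_eq_top).resolve_left fun hb' => hna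
        ⟨⟨fun a c => (MonoidHom.ker_eq_bot_iff _).mp hb' (by rw [map_mul, map_mul, mul_comm])⟩⟩
    have := congrArg Units.val (MonoidHom.mem_ker.mp (htop ▸ mem_top t : t ∈ φ.toHomUnits.ker))
    exact this
  have hprod : ∏ i, μ i = 1 := by
    rw [← hdet1, ← LinearMap.det_toMatrix b, hmat, Matrix.det_diagonal]
  have htr : (χ : G → ℂ) t = ∑ i, μ i := by
    rw [← he, Representation.character, LinearMap.trace_eq_matrix_trace ℂ b, hmat, Matrix.trace_diagonal]
  have hpm : ∀ i, μ i = 1 ∨ μ i = -1 := fun i => sq_eq_one_iff.mp (hμ i)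
  set S := Finset.univ.filter fun i => μ i = -1 with hS
  have hval : ∀ i, μ i = if i ∈ S then (-1 : ℂ) else 1 := fun i => by
    rcases hpm i with h | h
    · rw [if_neg, h]
      rw [hS, Finset.mem_filter, h]; norm_num
    · rw [if_pos, h]
      rw [hS, Finset.mem_filter]; exact ⟨Finset.mem_univ i, h⟩
  have hone : ((-1 : ℂ)) ^ S.card = 1 := by
    refine (?_ : _ = ∏ i, μ i).trans hprod
    rw [Finset.prod_congr rfl fun i _ => hval i, Finset.prod_ite_mem, Finset.univ_inter, Finset.prod_const]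
  have heven : Even S.card := by
    rcases Nat.even_or_odd S.card with h | h
    · exact h
    · rw [h.neg_one_pow] at hone; norm_num at hone
  refine ⟨(charDegree (χ : G → ℂ) : ℤ) - 2 * S.card, ?_, ?_⟩
  · rw [htr, hn]
    have hsum : ∀ i, μ i = 1 - 2 * (if i ∈ S then (1 : ℂ) else 0) := fun i => by
      rw [hval i]; split_ifs <;> norm_num
    rw [Finset.sum_congr rfl fun i _ => hsum i, Finset.sum_sub_distrib, ← Finset.mul_sum, Finset.sum_ite_mem,
      Finset.univ_inter]
    simp
  · obtain ⟨c, hc⟩ := heven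
    rw [hc]
    exact ⟨-c, by push_cast; ring⟩

/-- An element of square one outside a self-centralising Sylow subgroup of prime order inverts it. -/
theorem inverts_of_self_centralizing {G : Type*} [Group G] [Finite G] {p : ℕ} [Fact p.Prime] (P : Sylow p G)
    (hP : Nat.card (P : Subgroup G) = p) (hcP : centralizer ((P : Subgroup G) : Set G) = (P : Subgroup G))
    {u : G} (hu : u ∈ normalizer ((P : Subgroup G) : Set G)) (huu : u ^ 2 = 1) (huP : u ∉ (P : Subgroup G)) :
    ∀ x ∈ (P : Subgroup G), u * x * u⁻¹ = x⁻¹ := by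
  have hcent : ∀ x ∈ (P : Subgroup G), x ≠ 1 → ∀ g, g * x = x * g → g ∈ (P : Subgroup G) := fun x hx hx1 g hg => by
    rw [← hcP, ← (TwoClass.zpowers_eq_sylow P hP hx hx1).2, TwoClass.centralizer_zpowers]
    exact mem_centralizer_singleton_iff.mpr hg
  intro x hx
  by_cases hx1 : x = 1
  · subst hx1; simp
  have hy := (mem_normalizer_iff.mp hu x).mp hx
  set y := u * x * u⁻¹ with hy'
  have hyy : u * y * u⁻¹ = x := by
    rw [hy', show u * (u * x * u⁻¹) * u⁻¹ = u ^ 2 * x * (u ^ 2)⁻¹ by rw [pow_two]; group, huu]; simp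
  have hxy : x * y = y * x := congrArg Subtype.val
    ((isCyclic_of_prime_card hP).isMulCommutative.is_comm.comm (⟨x, hx⟩ : (P : Subgroup G)) ⟨y, hy⟩)
  by_contra hne
  have hne1 : x * y ≠ 1 := fun h => hne (eq_inv_of_mul_eq_one_right h)
  refine huP (hcent _ (mul_mem hx hy) hne1 u ?_)
  calc u * (x * y) = (u * x * u⁻¹) * (u * y * u⁻¹) * u := by group
    _ = x * y * u := by rw [← hy', hyy, hxy]

/-- Degree and value of the exceptional character of an inverted Sylow subgroup of prime order. -/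
theorem inverted (hna : ¬ IsMulCommutative G) {p : ℕ} [Fact p.Prime] (hp2 : p ≠ 2) (P : Sylow p G)
    (hP : Nat.card (P : Subgroup G) = p)
    (hN : Nat.card (normalizer ((P : Subgroup G) : Set G)) = 2 * p)
    (hC : Nat.card (centralizer ((P : Subgroup G) : Set G)) = p) :
    ∃ d : ℕ, 2 ≤ d ∧ d ∣ Nat.card G ∧ (d + 1) ∣ Nat.card G ∧ d * d < Nat.card G ∧
      ((p : ℤ) ∣ (d : ℤ) - 1 ∨ (p : ℤ) ∣ (d : ℤ) + 2) ∧
      ∀ s : G, orderOf s = 2 → ∃ v : ℤ, |v| < (d : ℤ) ∧ (4 : ℤ) ∣ v - (d : ℤ) ∧
        (∀ s' : G, orderOf s' = 2 → IsConj s s') ∧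
        (Nat.card G : ℤ) * ((d : ℤ) - v) ^ 2 =
          (p : ℤ) * (Nat.card (centralizer ({s} : Set G)) : ℤ) ^ 2 * d * (d + 1) := by
  have hp : p.Prime := Fact.out
  haveI : Fact (Nat.Prime 2) := ⟨Nat.prime_two⟩
  obtain ⟨u, hu, hu2⟩ := OrdersMid.exists_mem_of_dvd (q := 2) (normalizer ((P : Subgroup G) : Set G))
    (by rw [hN]; exact dvd_mul_right 2 p)
  have hcP : centralizer ((P : Subgroup G) : Set G) = (P : Subgroup G) :=
    (eq_of_le_of_card_ge (OrdersMid.le_centralizer_self P hP) (by rw [hC, hP])).symm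
  have hcent : ∀ x ∈ (P : Subgroup G), x ≠ 1 → ∀ g, g * x = x * g → g ∈ (P : Subgroup G) := fun x hx hx1 g hg => by
    rw [← hcP, ← (TwoClass.zpowers_eq_sylow P hP hx hx1).2, TwoClass.centralizer_zpowers]
    exact mem_centralizer_singleton_iff.mpr hg
  have huu : u ^ 2 = 1 := hu2 ▸ pow_orderOf_eq_one u
  have huP : u ∉ (P : Subgroup G) := fun h => by
    have := Subgroup.orderOf_dvd_natCard _ h
    rw [hu2, hP] at this
    exact hp2 ((Nat.prime_dvd_prime_iff_eq Nat.prime_two hp).mp this).symm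
  have hinv := inverts_of_self_centralizing P hP hcP hu huu huP
  have hI : InvertedOdd.Inv (P : Subgroup G) u :=
    ⟨by rw [hP]; exact hp.odd_of_ne_two hp2, hcent, hu2, hinv, by rw [hN, hP]⟩
  obtain ⟨lam, hlam⟩ : ∃ lam : ↥(P : Subgroup G) →* ℂˣ, lam ≠ 1 := by
    haveI : IsMulCommutative (P : Subgroup G) := (isCyclic_of_prime_card hP).isMulCommutative
    by_contra hno
    push Not at hno
    haveI : Finite (↥(P : Subgroup G) →* ℂˣ) := CfsgLib.Characterizations.BSW.finite_hom
    haveI := Fintype.ofFinite (↥(P : Subgroup G) →* ℂˣ)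
    have h := hI.sum_linear (1 : (P : Subgroup G))
    haveI : Subsingleton (↥(P : Subgroup G) →* ℂˣ) := ⟨fun a b => (hno a).trans (hno b).symm⟩
    simp only [map_one, Units.val_one, Finset.sum_const, Finset.card_univ, nsmul_eq_mul, mul_one, if_true,
      Fintype.card_eq_one_iff.mpr ⟨(1 : ↥(P : Subgroup G) →* ℂˣ), fun y => Subsingleton.elim y 1⟩, hP] at h
    exact hp.one_lt.ne (by exact_mod_cast h)
  obtain ⟨a, b, hd⟩ := InvertedOdd.exists_dec hI hlam
  obtain ⟨ha1, hb1, hab⟩ := hd.ne hlam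
  obtain ⟨d, hd0, hda, hdb⟩ := hd.1
  have hcong := InvertedOdd.degree_congr hI hlam hd hda
  rw [hP] at hcong
  have hdeg : charDegree (a : G → ℂ) = d := by
    have h : (a : G → ℂ) 1 = (charDegree (a : G → ℂ) : ℂ) := irr_one_eq a
    rw [hda] at h
    exact_mod_cast h.symm
  have hdeg' : charDegree (b : G → ℂ) = d + 1 := by
    have h : (b : G → ℂ) 1 = (charDegree (b : G → ℂ) : ℂ) := irr_one_eq b
    rw [hdb] at h
    exact_mod_cast h.symm
  have hd1 : d ≠ 1 := fun h => ha1 (by
    rw [BlockDegrees.eq_trivChar hna a (hdeg.trans h)]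
    funext g; exact trivChar_apply g)
  refine ⟨d, by omega, hdeg ▸ charDegree_dvd a, hdeg' ▸ charDegree_dvd b, ?_, hcong, ?_⟩
  · have h := Finset.sum_le_sum_of_subset (f := fun χ : IrrCharacter G => charDegree (χ : G → ℂ) ^ 2)
      (Finset.subset_univ {a, b})
    rw [sum_deg_sq, Finset.sum_pair hab, hdeg, hdeg'] at h
    nlinarith
  · intro s hs
    have hall : ∀ s' : G, orderOf s' = 2 → IsConj s' u := by
      intro s' hs'
      by_contra hne
      have h := InvertedOdd.class_equation hI hlam hd hda hs' hs'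
      rw [if_neg (fun h => hne h.1)] at h
      simp only [Nat.cast_zero, zero_mul, mul_eq_zero, Nat.cast_eq_zero, Nat.card_pos.ne', false_or, or_self] at h
      have hlt := norm_lt hna a (by rw [hdeg]; exact hd1) (g := s') (fun e => by rw [e, orderOf_one] at hs'; omega)
      rw [← sub_eq_zero.mp h, hdeg, Complex.norm_natCast] at hlt
      exact lt_irrefl _ hlt
    obtain ⟨v, hv, hv4⟩ := involution_value hna a hs
    rw [hdeg] at hv4
    refine ⟨v, ?_, hv4, fun s' hs' => (hall s hs).trans (hall s' hs').symm, ?_⟩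
    · have hlt := norm_lt hna a (by rw [hdeg]; exact hd1) (g := s) (fun e => by rw [e, orderOf_one] at hs; omega)
      rw [hv, hdeg, Complex.norm_intCast] at hlt
      exact_mod_cast hlt
    · have h := InvertedOdd.class_equation hI hlam hd hda hs hs
      rw [if_pos ⟨hall s hs, hall s hs⟩, hv, hP] at h
      have h' : (((Nat.card G : ℤ) * ((d : ℤ) - v) ^ 2 : ℤ) : ℂ) =
          (((p : ℤ) * (Nat.card (centralizer ({s} : Set G)) : ℤ) ^ 2 * d * (d + 1) : ℤ) : ℂ) := by
        push_cast
        linear_combination h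
      exact_mod_cast h'

end CfsgLib.SmallGroups.OrdersLow
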