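import Cfsg.Agent.Lib.KGroups.M11Local
import Cfsg.Agent.Lib.SmallGroups.OrdersLow.Tools

/-!
# The block of a self-centralising Sylow subgroup of prime order with the full automiser

Exactly `p` characters do not vanish at an element of order `p`; they take the values `±1` there.
-/

set_option autoImplicit false

namespace CfsgLib.SmallGroups.OrdersLow

open Cfsg CfsgLib.Blocks CfsgLib.KGroups.M11Tools CfsgLib.KGroups.M11Local Subgroup CfsgLib.SmallGroups
open scoped _root_.Classical ComplexConjugate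

variable {G : Type*} [Group G] [Fintype G] [IsSimpleGroup G]

theorem full_block (hna : ¬ IsMulCommutative G) {p : ℕ} [Fact p.Prime] (hp2 : p ≠ 2) (P : Sylow p G)
    (hP : Nat.card (P : Subgroup G) = p)
    (hN : Nat.card (normalizer ((P : Subgroup G) : Set G)) = (p - 1) * p)
    (hC : Nat.card (centralizer ((P : Subgroup G) : Set G)) = p) {x : G} (hxP : x ∈ (P : Subgroup G))
    (hx : orderOf x = p) :
    ∃ (Z : Finset (IrrCharacter G)) (s : IrrCharacter G → ℤ), trivChar G ∈ Z ∧ s (trivChar G) = 1 ∧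
      (∀ χ ∈ Z, (s χ = 1 ∨ s χ = -1) ∧ (χ : G → ℂ) x = (s χ : ℂ) ∧
        (charDegree (χ : G → ℂ) : ℤ) ≡ s χ [ZMOD p]) ∧
      (∀ χ, χ ∉ Z → (χ : G → ℂ) x = 0) ∧
      ∑ χ ∈ Z, s χ * (charDegree (χ : G → ℂ) : ℤ) = 0 := by
  have hp : p.Prime := Fact.out
  have hp3 : 3 ≤ p := by have := hp.two_le; omega
  obtain ⟨M, hM⟩ := DegreeTools.TISum.exists_pmodular hp
  obtain ⟨X, Y, εX, ε, hB, hdisj, hX, hY, hXp, hε, hYd, hYeq, hrel⟩ :=
    PrimeOrder.principal_block hM hp2 P hP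
  rw [CfsgLib.KGroups.M11Local.autCard_of P (e := p - 1) (by rw [hN, hC])] at hX hY hYd
  rw [Nat.div_self (by omega)] at hY
  obtain ⟨θ, rfl⟩ := Finset.card_eq_one.mp hY
  have hθm := hYd θ (Finset.mem_singleton_self θ)
  have hpp := fun (i : ℕ) (hi : i ∈ Finset.Ico 1 p) =>
    PrimeOrder.isPPart_pow_mul hx (Commute.one_left x) (by rw [orderOf_one]; exact hp.not_dvd_one) hi
  have hxi : ∀ i ∈ Finset.Ico 1 p, ∀ χ ∈ X, (χ : G → ℂ) (x ^ i) = (εX χ : ℂ) := by
    intro i hi χ hχ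
    obtain ⟨h1, h2⟩ := hpp i hi
    rw [mul_one] at h1
    exact (hXp χ hχ).2.2 _ _ h1 (pow_mem hxP i) h2
  have h1p : 1 ∈ Finset.Ico 1 p := Finset.mem_Ico.mpr ⟨le_rfl, hp.one_lt⟩
  set S : IrrCharacter G → ℝ := fun η => ∑ i ∈ Finset.Ico 1 p, ‖(η : G → ℂ) (x ^ i)‖ ^ 2 with hS
  have htot : ∑ η : IrrCharacter G, S η = ((p - 1 : ℕ) : ℝ) * p := by
    rw [hS, Finset.sum_comm, Finset.sum_congr rfl (g := fun _ => (p : ℝ)) fun i hi => ?_]
    · simp
    · rw [sum_norm_sq_column]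
      have hz : zpowers (x ^ i) = (P : Subgroup G) := PrimeOrder.zpowers_eq P hP (pow_mem hxP i) (hpp i hi).2
      rw [← Subgroup.centralizer_closure, ← zpowers_eq_closure, hz, hC]
  have hXS : ∀ η ∈ X, S η = ((p - 1 : ℕ) : ℝ) := fun η hη => by
    simp only [hS]
    rw [Finset.sum_congr rfl (g := fun _ => (1 : ℝ)) fun i hi => by
      rcases (hXp η hη).1 with e | e <;> rw [hxi i hi η hη, e] <;> norm_num]
    simp
  have hθS : ((p - 1 : ℕ) : ℝ) ≤ S θ := by
    refine le_trans (Nat.cast_le.mpr ?_) (norm_sum_lower θ hp hx)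
    have hne : charDegree (θ : G → ℂ) % p ≠ 0 := by
      intro h0
      have h1 : (p : ℤ) ∣ (charDegree (θ : G → ℂ) : ℤ) := Int.natCast_dvd_natCast.mpr (Nat.dvd_of_mod_eq_zero h0)
      rw [Int.modEq_iff_dvd, Nat.cast_sub hp.one_le] at hθm
      have h2 := dvd_add hθm h1
      rw [sub_add_cancel] at h2
      have h3 : (p : ℤ) ∣ 1 := by
        rcases hε with rfl | rfl
        · have := dvd_sub (dvd_refl (p : ℤ)) h2; simpa using this
        · have := dvd_add (dvd_refl (p : ℤ)) h2; simpa using this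
      have := Int.le_of_dvd (by norm_num) h3
      omega
    have hlt := Nat.mod_lt (charDegree (θ : G → ℂ)) hp.pos
    set r := charDegree (θ : G → ℂ) % p
    obtain ⟨q, hq⟩ : ∃ q, p = r + q + 1 := ⟨p - r - 1, by omega⟩
    obtain ⟨r', hr'⟩ : ∃ r', r = r' + 1 := ⟨r - 1, by omega⟩
    rw [show p - r = q + 1 by omega, show p - 1 = r + q by omega, hr']
    nlinarith
  have hnn : ∀ η, 0 ≤ S η := fun η => Finset.sum_nonneg fun _ _ => by positivity
  have hθX : θ ∉ X := fun h => Finset.disjoint_left.1 hdisj h (Finset.mem_singleton_self θ)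
  have hout : ∀ χ, χ ∉ insert θ X → (χ : G → ℂ) x = 0 := by
    intro χ hχ
    have hle : ∑ η ∈ insert χ (insert θ X), S η ≤ ((p - 1 : ℕ) : ℝ) * p :=
      htot ▸ Finset.sum_le_sum_of_subset_of_nonneg (Finset.subset_univ _) fun η _ _ => hnn η
    rw [Finset.sum_insert hχ, Finset.sum_insert hθX, Finset.sum_congr rfl hXS, Finset.sum_const, hX,
      nsmul_eq_mul] at hle
    have hc : ((p - 1 : ℕ) : ℝ) = (p : ℝ) - 1 := by rw [Nat.cast_sub hp.one_le]; norm_num
    have h0 : S χ = 0 := le_antisymm (by rw [hc] at hle hθS; linarith) (hnn χ)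
    have := (Finset.sum_eq_zero_iff_of_nonneg (fun i _ => by positivity)).mp h0 1 h1p
    simpa using this
  have hr : ε * (charDegree (θ : G → ℂ) : ℤ) = ∑ χ ∈ X, εX χ * (charDegree (χ : G → ℂ) : ℤ) := by
    have h := hrel θ (Finset.mem_singleton_self θ) 1 (by rw [orderOf_one]; exact hp.not_dvd_one)
    simp only [irr_one_eq] at h
    exact_mod_cast h
  have hx1 : x ≠ 1 := fun h => by rw [h, orderOf_one] at hx; omega
  have hval : ∀ χ ∈ X, (χ : G → ℂ) x = (εX χ : ℂ) := fun χ hχ => by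
    have := hxi 1 h1p χ hχ
    rwa [pow_one] at this
  have hθval : (θ : G → ℂ) x = ((-ε : ℤ) : ℂ) := by
    have h := sum_deg_mul (G := G) hx1
    rw [← Finset.sum_subset (Finset.subset_univ (insert θ X)) (fun χ _ hχ => by rw [hout χ hχ, mul_zero]),
      Finset.sum_insert hθX] at h
    have hs : ∑ χ ∈ X, (charDegree (χ : G → ℂ) : ℂ) * (χ : G → ℂ) x =
        ((ε * (charDegree (θ : G → ℂ) : ℤ) : ℤ) : ℂ) := by
      rw [hr, Int.cast_sum]
      exact Finset.sum_congr rfl fun χ hχ => by rw [hval χ hχ]; push_cast; ring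
    rw [hs] at h
    have hd : (charDegree (θ : G → ℂ) : ℂ) ≠ 0 := Nat.cast_ne_zero.mpr (charDegree_pos θ).ne'
    refine mul_left_cancel₀ hd ?_
    push_cast at h ⊢
    linear_combination h
  set σ : IrrCharacter G → ℤ := fun χ => if χ = θ then -ε else εX χ with hσ
  have hσθ : σ θ = -ε := if_pos rfl
  have hσX : ∀ χ ∈ X, σ χ = εX χ := fun χ hχ => if_neg fun (h : χ = θ) => hθX (h ▸ hχ)
  have hmem : ∀ χ ∈ insert θ X, (σ χ = 1 ∨ σ χ = -1) ∧ (χ : G → ℂ) x = (σ χ : ℂ) ∧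
      (charDegree (χ : G → ℂ) : ℤ) ≡ σ χ [ZMOD p] := by
    intro χ hχ
    rcases Finset.mem_insert.mp hχ with rfl | hχ
    · rw [hσθ]
      refine ⟨by rcases hε with rfl | rfl <;> simp, hθval, hθm.trans ?_⟩
      rw [Int.modEq_iff_dvd, Nat.cast_sub hp.one_le]
      exact ⟨-ε, by push_cast; ring⟩
    · rw [hσX χ hχ]
      exact ⟨(hXp χ hχ).1, hval χ hχ, (hXp χ hχ).2.1⟩
  have htriv : trivChar G ∈ insert θ X := by
    rcases (hB _).1 (trivChar_mem_principalBlock hM) with h | h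
    · exact Finset.mem_insert_of_mem h
    · exact Finset.mem_insert.mpr (Or.inl (Finset.mem_singleton.mp h))
  refine ⟨insert θ X, σ, htriv, ?_, hmem, hout, ?_⟩
  · have h := (hmem _ htriv).2.1
    rw [trivChar_apply] at h
    exact_mod_cast h.symm
  · rw [Finset.sum_insert hθX, hσθ, Finset.sum_congr rfl
      (g := fun χ => εX χ * (charDegree (χ : G → ℂ) : ℤ)) fun χ hχ => by rw [hσX χ hχ], ← hr]
    ring

end CfsgLib.SmallGroups.OrdersLow
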