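import Cfsg.Agent.Lib.SmallGroups.OrdersLow.Cases
import Cfsg.Agent.Lib.SmallGroups.OrdersLow.FullBlock

/-!
# More excluded orders between 1092 and 3640
-/

set_option autoImplicit false

namespace CfsgLib.SmallGroups.OrdersLow

open Subgroup CfsgLib.SmallGroups.SimpleTools CfsgLib.SmallGroups.LocalTools CfsgLib.SmallGroups.CosetFixed
  CfsgLib.SmallGroups.OrdersBelow1092 CfsgLib.SmallGroups.OrdersMid

variable {G : Type*} [Group G] [Finite G]

/-- Conjugate elements have centralisers of equal order. -/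
theorem card_centralizer_conj {t u : G} (h : IsConj t u) :
    Nat.card (centralizer ({t} : Set G)) = Nat.card (centralizer ({u} : Set G)) := by
  have hidx : (centralizer ({t} : Set G)).index = (centralizer ({u} : Set G)).index := by
    rw [← card_class, ← card_class]
    exact Nat.card_congr (Equiv.subtypeEquivRight fun a => ⟨h.symm.trans, h.trans⟩)
  have h1 := index_mul_card (centralizer ({t} : Set G))
  rw [hidx, ← index_mul_card (centralizer ({u} : Set G))] at h1
  exact Nat.eq_of_mul_eq_mul_left (Nat.pos_of_ne_zero index_ne_zero_of_finite) h1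

variable [IsSimpleGroup G] (hG : ¬ IsMulCommutative G)
include hG

theorem ne_1980 (hn : Nat.card G = 1980) : False := by
  classical
  have : Fact (Nat.Prime 11) := ⟨by norm_num⟩
  have : Fact (Nat.Prime 5) := ⟨by norm_num⟩
  have : Fact (Nat.Prime 3) := ⟨Nat.prime_three⟩
  have : Fact (Nat.Prime 2) := ⟨Nat.prime_two⟩
  have hcard2 : Nat.card G = 2 ^ 2 * 495 := by rw [hn]; norm_num
  -- every involution has a centraliser of order `44`
  have h44 : ∀ u : G, orderOf u = 2 → Nat.card (centralizer ({u} : Set G)) = 44 := by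
    intro u hu
    have h1 := sylow_count hG (p := 11) (k := 1) (m := 180) (by rw [hn]; norm_num) (by norm_num) (by norm_num)
    rw [show ((Nat.divisors 180).filter (fun n => n % 11 = 1)).erase 1 = {12, 45} by decide +kernel] at h1
    simp only [Finset.mem_insert, Finset.mem_singleton] at h1
    obtain ⟨P, e, k, hP, he1, hed, hek, hN, hC⟩ :=
      prime_order_setup hG (p := 11) (m := 180) (by rw [hn]) (by norm_num) rfl
    have he10 : e ≤ 10 := Nat.le_of_dvd (by norm_num) hed
    rcases h1 with h1 | h1 <;> rw [h1] at hek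
    · have h3 := card_normalizer_of_succ hG (p := 11) (by norm_num) P hP h1
      rw [hN, show e * (11 * k) = 11 * (e * k) by ring, show e * k = 15 by omega] at h3
      norm_num at h3
    obtain ⟨rfl, rfl⟩ : e = 2 ∧ k = 2 := by interval_cases e <;> omega
    obtain ⟨y, hy, hy2⟩ := exists_mem_of_dvd (q := 2) (centralizer ((P : Subgroup G) : Set G))
      (by rw [hC]; norm_num)
    obtain ⟨n, h, hn11, hnlt, -, hH, h22, hhN, hdvd⟩ := centralizer_shape hG (by norm_num) P hP hy hy2
    rw [h1] at hnlt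
    rw [hn] at hdvd
    rw [hN] at hhN
    have hd : n ∣ 90 :=
      Nat.dvd_of_mul_dvd_mul_right (show 0 < 11 * 2 by norm_num) ((Nat.mul_dvd_mul_left n h22).trans hdvd)
    have hn1 : n = 1 := by
      have key : ∀ n ∈ (90 : ℕ).divisors, n % 11 = 1 → n < 45 → n = 1 := by decide +kernel
      exact key n (Nat.mem_divisors.mpr ⟨hd, by norm_num⟩) hn11 hnlt
    rw [hn1, one_mul] at hH
    obtain ⟨s, hs, h4⟩ := exists_central_involution hcard2 (by norm_num) (by norm_num)
    rw [card_centralizer_conj (isConj_involution hcard2 (by norm_num) hs hy2), hH] at h4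
    rw [card_centralizer_conj (isConj_involution hcard2 (by norm_num) hu hy2), hH]
    have key : ∀ h ∈ (44 : ℕ).divisors, 22 ∣ h → 4 ∣ h → h = 44 := by decide +kernel
    exact key h (Nat.mem_divisors.mpr ⟨hhN, by norm_num⟩) h22 (by simpa using h4)
  have hcard3 : Nat.card G = 3 ^ 2 * 220 := by rw [hn]; norm_num
  have h3 := sylow_count hG (p := 3) (k := 2) (m := 220) hcard3 (by norm_num) (by norm_num)
  rw [show ((Nat.divisors 220).filter (fun n => n % 3 = 1)).erase 1 = {4, 10, 22, 55, 220} by decide +kernel] at h3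
  simp only [Finset.mem_insert, Finset.mem_singleton] at h3
  obtain ⟨P⟩ : Nonempty (Sylow 3 G) := inferInstance
  have hP : Nat.card (P : Subgroup G) = 3 ^ 2 := card_sylow_subgroup hcard3 (by norm_num) P
  have hPcomm : ∀ a ∈ (P : Subgroup G), ∀ b ∈ (P : Subgroup G), a * b = b * a := fun a ha b hb =>
    congrArg Subtype.val (IsPGroup.commutative_of_card_eq_prime_sq hP (⟨a, ha⟩ : (P : Subgroup G)) ⟨b, hb⟩)
  set N := normalizer ((P : Subgroup G) : Set G) with hNdef
  have hmul := card_normalizer_mul P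
  rw [hn, ← hNdef] at hmul
  rcases h3 with h3 | h3 | h3 | h3 | h3 <;> rw [h3] at hmul
  · exact absurd (h3 ▸ embeds hG (p := 3) (by rw [hn]; norm_num)) (by rw [hn]; decide +kernel)
  · exact absurd (h3 ▸ embeds hG (p := 3) (by rw [hn]; norm_num)) (by rw [hn]; decide +kernel)
  · -- twenty-two Sylow `3`-subgroups: an element of order five centralises one of them
    obtain ⟨y, hy, hy5⟩ := exists_mem_of_dvd (q := 5) N (by omega)
    have hPy : (P : Subgroup G) ≤ centralizer ({y} : Set G) :=
      Order2520.le_centralizer_of_normalizes hy5 hy (by rw [hP]; decide +kernel)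
    have hq : ∀ R : Sylow 5 G, Nat.card (R : Subgroup G) = 5 := fun R =>
      (card_sylow_subgroup (k := 1) (m := 396) (by rw [hn]; norm_num) (by norm_num) R).trans (pow_one 5)
    obtain ⟨R, hR⟩ := TwoClass.exists_zpowers hy5 hq
    obtain ⟨e, k, he1, hed, hNR, hCR⟩ := exists_e hG R (hq R)
    have h9 : 9 ∣ 5 * k := by
      rw [← hCR, ← hR, TwoClass.centralizer_zpowers]
      exact (show (3 : ℕ) ^ 2 = 9 by norm_num) ▸ hP ▸ card_dvd_of_le hPy
    obtain ⟨j, rfl⟩ : 9 ∣ k := Nat.Coprime.dvd_of_dvd_mul_left (by norm_num) h9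
    have hm5 := card_normalizer_mul R
    rw [hn, hNR] at hm5
    have h11 : Nat.card (Sylow 5 G) = 11 := by
      have h1 := sylow_count hG (p := 5) (k := 1) (m := 396) (by rw [hn]; norm_num) (by norm_num) (by norm_num)
      have key : ∀ n ∈ ((396 : ℕ).divisors.filter (fun n => n % 5 = 1)).erase 1, 44 % n = 0 → n = 11 := by
        decide +kernel
      refine key _ h1 (Nat.mod_eq_zero_of_dvd ⟨e * j, ?_⟩)
      nlinarith
    obtain ⟨z, hz, hz3⟩ := exists_mem_of_dvd (q := 3) (centralizer ((R : Subgroup G) : Set G))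
      (hCR ▸ ⟨5 * (3 * j), by ring⟩)
    obtain ⟨f, -, h5, hlt, h3', -⟩ := exists_fixed hG R (hq R) hz hz3
    rw [h11] at hlt h3'
    omega
  · -- fifty-five: two involutions inverting the subgroup
    obtain ⟨V, hV⟩ := Sylow.exists_subgroup_card_pow_prime (G := N) 2 (n := 2) (by norm_num; omega)
    set W := V.map N.subtype with hW
    have hWc : Nat.card W = 4 := by rw [hW, card_map_of_injective (subtype_injective _), hV]; norm_num
    have hord : ∀ w ∈ W, w ≠ 1 → orderOf w = 2 := by
      intro w hw hw1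
      obtain ⟨i, hi, e⟩ := (Nat.dvd_prime_pow Nat.prime_two).mp
        ((W.orderOf_dvd_natCard hw).trans (dvd_of_eq (hWc.trans (show (4 : ℕ) = 2 ^ 2 by norm_num))))
      rcases i with _ | _ | _ | i
      · exact absurd (orderOf_eq_one_iff.mp e) hw1
      · rw [e, pow_one]
      · exact absurd e (no_order_four hG hcard2 (by norm_num))
      · omega
    have hfree : ∀ w ∈ W, w ≠ 1 → ∀ a ∈ (P : Subgroup G), a * w = w * a → a = 1 := by
      intro w hw hw1 a ha haw
      have h1 := Subgroup.orderOf_dvd_natCard (centralizer ({w} : Set G)) (mem_centralizer_singleton_iff.mpr haw)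
      rw [h44 w (hord w hw hw1)] at h1
      have h2 := (P : Subgroup G).orderOf_dvd_natCard ha
      rw [hP] at h2
      exact orderOf_eq_one_iff.mp (Nat.dvd_one.mp (by simpa using Nat.dvd_gcd h1 h2))
    have hinv : ∀ w ∈ W, w ≠ 1 → ∀ a ∈ (P : Subgroup G), w * a * w⁻¹ = a⁻¹ := by
      intro w hw hw1 a ha
      have hb : w * a * w⁻¹ ∈ (P : Subgroup G) := (mem_normalizer_iff.mp (map_subtype_le V hw) a).mp ha
      have hw' : w⁻¹ = w := inv_eq_of_mul_eq_one_right (by rw [← pow_two, ← hord w hw hw1, pow_orderOf_eq_one])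
      have hc := hPcomm a ha _ hb
      refine eq_inv_of_mul_eq_one_right (hfree w hw hw1 _ (mul_mem ha hb) ?_)
      rw [hw'] at hc ⊢
      have hww : w * w = 1 := by nth_rw 1 [← hw']; exact inv_mul_cancel w
      calc a * (w * a * w) * w = a * w * a * (w * w) := by group
        _ = a * w * a := by rw [hww, mul_one]
        _ = (w * w) * a * w * a := by rw [hww, one_mul]
        _ = w * ((w * a * w) * a) := by group
        _ = w * (a * (w * a * w)) := by rw [hc]
    obtain ⟨v, hv, hv1⟩ : ∃ v ∈ W, v ≠ 1 := by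
      by_contra hc
      simp only [not_exists, not_and, not_not] at hc
      rw [(W.eq_bot_iff_forall).mpr hc, card_bot] at hWc
      omega
    obtain ⟨w, hw, hw1, hwv⟩ : ∃ w ∈ W, w ≠ 1 ∧ w ≠ v := by
      by_contra hc
      simp only [not_exists, not_and, not_not] at hc
      have hle : Nat.card W ≤ Nat.card ({1, v} : Finset G) := by
        refine Nat.card_le_card_of_injective (fun u : W => ⟨(u : G), by
          by_cases h : (u : G) = 1
          · simp [h]
          · simp [hc u u.2 h]⟩) fun a b e => Subtype.ext (congrArg Subtype.val e :)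
      rw [hWc, Nat.card_eq_fintype_card, Fintype.card_coe] at hle
      have := Finset.card_insert_le (1 : G) {v}
      rw [Finset.card_singleton] at this
      omega
    obtain ⟨a, ha, ha1⟩ := exists_mem_of_dvd (q := 3) (P : Subgroup G) (by rw [hP]; norm_num)
    have hne : v * w ≠ 1 := fun h => hwv (by
      rw [eq_inv_of_mul_eq_one_right h]
      exact inv_eq_of_mul_eq_one_right (by rw [← pow_two, ← hord v hv hv1, pow_orderOf_eq_one]))
    have hfix : a * (v * w) = v * w * a := by
      have h2 := hinv v hv hv1 a⁻¹ (inv_mem ha)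
      rw [inv_inv] at h2
      calc a * (v * w) = v * a⁻¹ * v⁻¹ * (v * w) := by rw [h2]
        _ = v * a⁻¹ * w := by group
        _ = v * (w * a * w⁻¹) * w := by rw [hinv w hw hw1 a ha]
        _ = v * w * a := by group
    rw [hfree _ (mul_mem hv hw) hne a ha hfix, orderOf_one] at ha1
    omega
  · have hNP : N = (P : Subgroup G) := (eq_of_le_of_card_ge le_normalizer
      (by rw [hP]; simp only [hNdef] at hmul; omega)).symm
    refine not_normalizer_le hG (hn ▸ by norm_num) P ?_
    rw [← hNdef, hNP]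
    exact fun a ha => mem_centralizer_iff.mpr fun b hb => hPcomm b hb a ha

theorem ne_1512 (hn : Nat.card G = 1512) : False := by
  cases nonempty_fintype G
  classical
  have : Fact (Nat.Prime 7) := ⟨by norm_num⟩
  have : Fact (Nat.Prime 2) := ⟨Nat.prime_two⟩
  have h1 := sylow_count hG (p := 7) (k := 1) (m := 216) (by rw [hn]; norm_num) (by norm_num) (by norm_num)
  rw [show ((Nat.divisors 216).filter (fun n => n % 7 = 1)).erase 1 = {8, 36} by decide +kernel] at h1
  simp only [Finset.mem_insert, Finset.mem_singleton] at h1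
  obtain ⟨P, e, k, hP, he1, hed, hek, hN, hC⟩ :=
    prime_order_setup hG (p := 7) (m := 216) (by rw [hn]) (by norm_num) rfl
  obtain ⟨x, hxP, hx7⟩ := exists_mem_of_dvd (q := 7) (P : Subgroup G) (by rw [hP])
  have hk : k = 1 := by
    have hz := (TwoClass.zpowers_eq_sylow P hP hxP (fun h => by rw [h, orderOf_one] at hx7; omega)).2
    have h := Cfsg.Agent.S1001.result 7 3 3 (by norm_num) (by rw [hn]; norm_num) x hx7
    rw [← TwoClass.centralizer_zpowers, hz] at h
    rw [h, hP] at hC
    omega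
  subst hk
  rcases h1 with h1 | h1 <;> rw [h1] at hek
  · have h3 := card_normalizer_of_succ hG (p := 7) (by norm_num) P hP h1
    rw [hN, show e = 27 by omega] at h3
    norm_num at h3
  obtain rfl : e = 6 := by omega
  -- an involution of the normaliser commuting with an element of order three
  set N := normalizer ((P : Subgroup G) : Set G) with hNdef
  set φ := Subgroup.normalizerMonoidHom (P : Subgroup G)
  have hcyc : IsCyclic ↥(P : Subgroup G) := isCyclic_of_prime_card hP
  have hcP : centralizer ((P : Subgroup G) : Set G) = (P : Subgroup G) :=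
    (eq_of_le_of_card_ge (OrdersMid.le_centralizer_self P hP) (by rw [hC, hP])).symm
  have hr6 : Nat.card φ.range = 6 := by
    have h := φ.ker.index_mul_card
    rw [index_ker] at h
    have hker : Nat.card φ.ker = 7 := by
      rw [normalizerMonoidHom_ker, Nat.card_congr (subgroupOfEquivOfLe (centralizer_le_normalizer _)).toEquiv, hC]
    rw [hker, hN] at h
    omega
  have haut : IsCyclic (MulAut ↥(P : Subgroup G)) := by
    have : IsCyclic (ZMod (Nat.card ↥(P : Subgroup G)))ˣ := by
      rw [hP]; infer_instance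
    exact isCyclic_of_surjective (IsCyclic.mulAutMulEquiv ↥(P : Subgroup G)).symm.toMonoidHom
      (MulEquiv.surjective _)
  obtain ⟨gen, hgen⟩ := IsCyclic.exists_generator (α := φ.range)
  obtain ⟨g, hg⟩ := φ.rangeRestrict_surjective gen
  have hg6 : orderOf g = 6 := by
    have ho : orderOf (φ.rangeRestrict g) = 6 := by
      rw [hg, orderOf_eq_card_of_forall_mem_zpowers hgen, hr6]
    refine Nat.dvd_antisymm (orderOf_dvd_of_pow_eq_one ?_) (ho ▸ orderOf_map_dvd φ.rangeRestrict g)
    by_contra hne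
    have hker : g ^ 6 ∈ φ.ker := by
      rw [MonoidHom.mem_ker, map_pow]
      exact congrArg Subtype.val (show (φ.rangeRestrict g) ^ 6 = 1 by rw [← ho, pow_orderOf_eq_one])
    rw [normalizerMonoidHom_ker, mem_subgroupOf, hcP] at hker
    have hz := (TwoClass.zpowers_eq_sylow P hP hker fun h => hne (Subtype.ext h)).2
    have hgC : (g : G) ∈ centralizer ((P : Subgroup G) : Set G) := by
      have h6 : (g : G) ∈ centralizer ((zpowers ((g ^ 6 : _) : G) : Subgroup G) : Set G) := by
        rw [TwoClass.centralizer_zpowers, mem_centralizer_singleton_iff]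
        exact congrArg Subtype.val (Commute.self_pow g 6).eq
      have hset := congrArg (fun K : Subgroup G => (K : Set G)) hz
      rwa [hset] at h6
    have hk1 : φ g = 1 := MonoidHom.mem_ker.mp (by
      rw [normalizerMonoidHom_ker]; exact mem_subgroupOf.mpr hgC)
    rw [show φ.rangeRestrict g = 1 from Subtype.ext hk1, orderOf_one] at ho
    omega
  have hgG : orderOf (g : G) = 6 := by rw [orderOf_coe, hg6]
  set u : G := (g : G) ^ 3
  have hu2 : orderOf u = 2 := by rw [orderOf_pow, hgG]; norm_num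
  have huu : u * u = 1 := by rw [← pow_two, ← hu2, pow_orderOf_eq_one]
  have huC : u ∉ centralizer ((P : Subgroup G) : Set G) := fun h => by
    have := Subgroup.orderOf_dvd_natCard _ h
    rw [hu2, hC] at this
    norm_num at this
  have hinv := OrdersMid.inverts hP huu (pow_mem g.2 3) huC
  set C := Nat.card (centralizer ({u} : Set G)) with hCu
  have h6C : 6 ∣ C := hgG ▸ Subgroup.orderOf_dvd_natCard _
    (mem_centralizer_singleton_iff.mpr (Commute.self_pow (g : G) 3).eq)
  have h8C : 8 ∣ C := by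
    by_contra h8
    exact false_of_small_centralizer_eight (m := 189) (by rw [hn]; norm_num) (by norm_num) hu2 h8
  -- the seven characters
  obtain ⟨Z, σ, htZ, hσt, hZ, hout, hsum⟩ := full_block hG (p := 7) (by norm_num) P hP (by rw [hN]) hC hxP hx7
  have htd : Cfsg.charDegree ((CfsgLib.Blocks.trivChar G : Cfsg.IrrCharacter G) : G → ℂ) = 1 := by simp [Cfsg.charDegree]
  set Z' := Z.erase (CfsgLib.Blocks.trivChar G)
  set d : Cfsg.IrrCharacter G → ℕ := fun χ => Cfsg.charDegree (χ : G → ℂ) with hd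
  have hdeg : ∀ χ ∈ Z', (σ χ = 1 ∧ (d χ = 8 ∨ d χ = 36)) ∨ (σ χ = -1 ∧ (d χ = 6 ∨ d χ = 27)) := by
    intro χ hχ
    obtain ⟨hne, hχZ⟩ := Finset.mem_erase.mp hχ
    obtain ⟨hs, -, hmod⟩ := hZ χ hχZ
    have h2 : 2 ≤ d χ := by
      refine Nat.succ_le_of_lt (lt_of_le_of_ne (CfsgLib.Blocks.charDegree_pos χ) fun h => ?_)
      exact hne (CfsgLib.SmallGroups.BlockDegrees.eq_trivChar hG χ h.symm)
    have hsq := Finset.sum_le_sum_of_subset (f := fun ψ : Cfsg.IrrCharacter G => d ψ ^ 2)
      (Finset.subset_univ {χ})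
    rw [Finset.sum_singleton, CfsgLib.KGroups.M11Tools.sum_deg_sq] at hsq
    rw [hn] at hsq
    have hlt : d χ < 39 := by nlinarith
    have key : ∀ d ∈ Finset.range 39, d ∣ 1512 → 2 ≤ d → ∀ s ∈ ({1, -1} : Finset ℤ),
        (7 : ℤ) ∣ s - (d : ℤ) → (s = 1 ∧ (d = 8 ∨ d = 36)) ∨ (s = -1 ∧ (d = 6 ∨ d = 27)) := by decide +kernel
    exact key _ (Finset.mem_range.mpr hlt) (hn ▸ CfsgLib.Blocks.charDegree_dvd χ) h2 _ (by simpa using hs)
      (Int.modEq_iff_dvd.mp hmod)
  obtain ⟨⟨a, ha, hsa, hda⟩, ⟨b, hb, hsb, hdb⟩⟩ :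
      (∃ a ∈ Z', σ a = -1 ∧ d a = 6) ∧ (∃ b ∈ Z', σ b = -1 ∧ d b = 27) := by
    have h0 : 1 + ∑ χ ∈ Z', σ χ * (d χ : ℤ) = 0 := by
      rw [← hsum, ← Finset.add_sum_erase _ _ htZ, hσt, htd]; simp [d, Z']
    set F := Z'.filter fun χ => d χ = 27
    set S6 := Z'.filter fun χ => d χ = 6
    have hmod4 : (4 : ℤ) ∣ ∑ χ ∈ Z', σ χ * (d χ : ℤ) + 27 * F.card + 6 * S6.card := by
      rw [show (27 : ℤ) * F.card = ∑ χ ∈ Z', if d χ = 27 then (27 : ℤ) else 0 by
          rw [← Finset.sum_filter, Finset.sum_const, nsmul_eq_mul, mul_comm],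
        show (6 : ℤ) * S6.card = ∑ χ ∈ Z', if d χ = 6 then (6 : ℤ) else 0 by
          rw [← Finset.sum_filter, Finset.sum_const, nsmul_eq_mul, mul_comm],
        ← Finset.sum_add_distrib, ← Finset.sum_add_distrib]
      refine Finset.dvd_sum fun χ hχ => ?_
      rcases hdeg χ hχ with ⟨e1, e2 | e2⟩ | ⟨e1, e2 | e2⟩ <;> rw [e1, e2] <;> norm_num
    have hF : F.card ≤ 2 := by
      have h := Finset.sum_le_sum_of_subset (f := fun ψ : Cfsg.IrrCharacter G => d ψ ^ 2) (Finset.subset_univ F)
      rw [Finset.sum_congr rfl (g := fun _ => 729) fun χ hχ => by rw [(Finset.mem_filter.mp hχ).2]; norm_num,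
        Finset.sum_const, smul_eq_mul, CfsgLib.KGroups.M11Tools.sum_deg_sq, hn] at h
      omega
    have hne : F.card ≠ 0 ∧ S6.card ≠ 0 := by
      rw [eq_neg_of_add_eq_zero_right h0] at hmod4
      constructor <;> intro h <;> rw [h] at hmod4 <;> push_cast at hmod4 <;> omega
    obtain ⟨b, hb⟩ := Finset.card_ne_zero.mp hne.1
    obtain ⟨a, ha⟩ := Finset.card_ne_zero.mp hne.2
    obtain ⟨hb, hdb⟩ := Finset.mem_filter.mp hb
    obtain ⟨ha, hda⟩ := Finset.mem_filter.mp ha
    refine ⟨⟨a, ha, ?_, hda⟩, ⟨b, hb, ?_, hdb⟩⟩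
    · rcases hdeg a ha with ⟨-, h | h⟩ | ⟨h, -⟩ <;> omega
    · rcases hdeg b hb with ⟨-, h | h⟩ | ⟨h, -⟩ <;> omega
  -- the class equation
  have hv : ∀ χ : Cfsg.IrrCharacter G, ∃ v : ℤ, (χ : G → ℂ) u = v ∧ (4 : ℤ) ∣ v - (d χ : ℤ) :=
    fun χ => involution_value hG χ hu2
  choose v hv hv4 using hv
  set t : Cfsg.IrrCharacter G → ℝ := fun χ => if χ ∈ Z then (σ χ : ℝ) * (v χ : ℝ) ^ 2 / (d χ : ℝ) else 0
  have hce := InvertingInvolution.class_equation (P := (P : Subgroup G)) (by norm_num : (7 : ℕ) ≠ 2) hP hcP huu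
    hinv ⟨x, hxP⟩ (fun h => by rw [show x = 1 from congrArg Subtype.val h, orderOf_one] at hx7; omega)
  have heq : (7 : ℝ) * (C : ℝ) ^ 2 = 1512 * ∑ χ, t χ := by
    have hterm : ∀ χ : Cfsg.IrrCharacter G,
        (starRingEnd ℂ) ((χ : G → ℂ) x) * (χ : G → ℂ) u ^ 2 / (χ : G → ℂ) 1 = (t χ : ℂ) := by
      intro χ
      simp only [t]
      split_ifs with h
      · rw [(hZ χ h).2.1, hv χ, CfsgLib.Blocks.irr_one_eq]; simp [d]
      · rw [hout χ h]; simp
    simp only [hterm, hn] at hce
    rw [← hCu] at hce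
    exact_mod_cast hce
  have hcol : ∑ χ, (v χ : ℝ) ^ 2 = (C : ℝ) := by
    rw [hCu, ← CfsgLib.KGroups.M11Tools.sum_norm_sq_column]
    refine Finset.sum_congr rfl fun χ _ => ?_
    rw [hv χ, Complex.norm_intCast, sq_abs]
  have haZ := (Finset.mem_erase.mp ha)
  have hbZ := (Finset.mem_erase.mp hb)
  have hab : a ≠ b := fun h => by rw [h, hdb] at hda; omega
  have hva : (4 : ℝ) ≤ (v a : ℝ) ^ 2 := by
    have h := hv4 a; rw [hda] at h
    have h2 : 2 ≤ v a ∨ v a ≤ -2 := by omega
    have h4 : (4 : ℤ) ≤ v a ^ 2 := by rcases h2 with h2 | h2 <;> nlinarith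
    exact_mod_cast h4
  have hvb : (1 : ℝ) ≤ (v b : ℝ) ^ 2 := by
    have h := hv4 b; rw [hdb] at h
    have h2 : 1 ≤ v b ∨ v b ≤ -1 := by omega
    have h4 : (1 : ℤ) ≤ v b ^ 2 := by rcases h2 with h2 | h2 <;> nlinarith
    exact_mod_cast h4
  have hv1 : (v (CfsgLib.Blocks.trivChar G) : ℝ) = 1 := by
    have h := hv (CfsgLib.Blocks.trivChar G)
    rw [CfsgLib.Blocks.trivChar_apply] at h
    exact_mod_cast h.symm
  set T : Finset (Cfsg.IrrCharacter G) := {CfsgLib.Blocks.trivChar G, a, b}
  have hT : ∀ f : Cfsg.IrrCharacter G → ℝ, ∑ χ, f χ =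
      f (CfsgLib.Blocks.trivChar G) + (f a + f b) + ∑ χ ∈ Finset.univ \ T, f χ := fun f => by
    rw [← Finset.sum_sdiff (Finset.subset_univ T), Finset.sum_insert (by simp [haZ.1.symm, hbZ.1.symm]),
      Finset.sum_pair hab]
    ring
  have hrest : ∀ χ ∈ Finset.univ \ T, t χ ≤ (v χ : ℝ) ^ 2 / 8 := by
    intro χ hχ
    have hne : χ ≠ CfsgLib.Blocks.trivChar G := fun h => (Finset.mem_sdiff.mp hχ).2 (by simp [T, h])
    simp only [t]
    split_ifs with h
    · rcases hdeg χ (Finset.mem_erase.mpr ⟨hne, h⟩) with ⟨e1, e2⟩ | ⟨e1, -⟩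
      · rw [e1, Int.cast_one, one_mul]
        refine div_le_div_of_nonneg_left (sq_nonneg _) (by norm_num) ?_
        rcases e2 with e2 | e2 <;> rw [e2] <;> norm_num
      · rw [e1]
        refine le_trans (div_nonpos_of_nonpos_of_nonneg ?_ (Nat.cast_nonneg _)) (by positivity)
        push_cast
        nlinarith [sq_nonneg (v χ : ℝ)]
    · positivity
  have hle := Finset.sum_le_sum hrest
  rw [← Finset.sum_div] at hle
  have htt : t (CfsgLib.Blocks.trivChar G) = 1 := by
    simp only [t]; rw [if_pos htZ, hσt, hv1]; simp [d, htd]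
  have hta : t a ≤ -4 / 6 := by
    simp only [t]; rw [if_pos haZ.2, hsa, hda]; push_cast; linarith
  have htb : t b ≤ -1 / 27 := by
    simp only [t]; rw [if_pos hbZ.2, hsb, hdb]; push_cast; linarith
  rw [hT t] at heq
  have hcol' := hcol
  rw [hT (fun χ => (v χ : ℝ) ^ 2), hv1] at hcol'
  have hC24 : (24 : ℝ) ≤ C := by
    have hpos : 0 < C := Nat.card_pos
    have h24 : 24 ≤ C := Nat.le_of_dvd hpos ((show Nat.lcm 6 8 = 24 by decide +kernel) ▸ Nat.lcm_dvd h6C h8C)
    exact_mod_cast h24
  nlinarith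

theorem ne_1680 (hn : Nat.card G = 1680) : False := by
  cases nonempty_fintype G
  have : Fact (Nat.Prime 7) := ⟨by norm_num⟩
  have : Fact (Nat.Prime 5) := ⟨by norm_num⟩
  have : Fact (Nat.Prime 3) := ⟨Nat.prime_three⟩
  have : Fact (Nat.Prime 2) := ⟨Nat.prime_two⟩
  -- every involution has a centraliser of order `16`
  have h16 : ∀ u : G, orderOf u = 2 → Nat.card (centralizer ({u} : Set G)) = 16 := by
    have h1 := sylow_count hG (p := 7) (k := 1) (m := 240) (by rw [hn]; norm_num) (by norm_num) (by norm_num)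
    rw [show ((Nat.divisors 240).filter (fun n => n % 7 = 1)).erase 1 = {8, 15, 120} by decide +kernel] at h1
    simp only [Finset.mem_insert, Finset.mem_singleton] at h1
    obtain ⟨P, e, k, hP, he1, hed, hek, hN, hC⟩ :=
      prime_order_setup hG (p := 7) (m := 240) (by rw [hn]) (by norm_num) rfl
    have he6 : e ≤ 6 := Nat.le_of_dvd (by norm_num) hed
    rcases h1 with h1 | h1 | h1 <;> rw [h1] at hek
    · have h3 := card_normalizer_of_succ hG (p := 7) (by norm_num) P hP h1
      rw [hN, show e * (7 * k) = 7 * (e * k) by ring, show e * k = 30 by omega] at h3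
      norm_num at h3
    · obtain ⟨rfl, rfl⟩ : e = 2 ∧ k = 8 := by interval_cases e <;> omega
      obtain ⟨y, hy, hy2⟩ := exists_mem_of_dvd (q := 2) (centralizer ((P : Subgroup G) : Set G))
        (by rw [hC]; norm_num)
      obtain ⟨f, -, h7, hlt, -, h4⟩ := exists_fixed hG P hP hy hy2
      have := h4 rfl
      omega
    obtain ⟨rfl, rfl⟩ : e = 2 ∧ k = 1 := by interval_cases e <;> omega
    obtain ⟨d, hd2, hd, hd', hdd, hcong, hall⟩ :=
      inverted (G := G) hG (p := 7) (by norm_num) P hP (by rw [hN]) (by rw [hC])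
    rw [hn] at hd hd' hdd
    obtain ⟨s, hs, hs16⟩ := exists_central_involution (G := G) (a := 4) (m := 105) (by rw [hn]; norm_num)
      (by norm_num) (by norm_num)
    obtain ⟨v, hv, hv4, hconj, heq⟩ := hall s hs
    have key : ∀ d ∈ Finset.range 41, 2 ≤ d → d ∣ 1680 → d + 1 ∣ 1680 →
        ((7 : ℤ) ∣ (d : ℤ) - 1 ∨ (7 : ℤ) ∣ (d : ℤ) + 2) → d = 5 ∨ d = 15 := by decide +kernel
    have key2 : ∀ C ∈ (1680 : ℕ).divisors, 16 ∣ C → ∀ d ∈ ({5, 15} : Finset ℕ), ∀ j ∈ Finset.range 31,
        |(j : ℤ) - 15| < (d : ℤ) → (4 : ℤ) ∣ ((j : ℤ) - 15) - (d : ℤ) →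
        (1680 : ℤ) * ((d : ℤ) - ((j : ℤ) - 15)) ^ 2 = 7 * (C : ℤ) ^ 2 * d * (d + 1) → C = 16 := by decide +kernel
    have hd' := key d (Finset.mem_range.mpr (by nlinarith)) hd2 hd hd' hcong
    have hvlt := abs_lt.mp hv
    have hj : ((v + 15).toNat : ℤ) - 15 = v := by rcases hd' with rfl | rfl <;> omega
    intro u hu
    rw [← card_centralizer_conj (hconj u hu)]
    refine key2 _ (Nat.mem_divisors.mpr ⟨hn ▸ card_subgroup_dvd_card _, by norm_num⟩) (by simpa using hs16) d
      (by simpa using hd') (v + 15).toNat (Finset.mem_range.mpr (by rcases hd' with rfl | rfl <;> omega))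
      (by rw [hj]; exact hv) (by rw [hj]; exact hv4) ?_
    rw [hj]
    rw [hn] at heq
    exact_mod_cast heq
  have h1 := sylow_count hG (p := 5) (k := 1) (m := 336) (by rw [hn]; norm_num) (by norm_num) (by norm_num)
  rw [show ((Nat.divisors 336).filter (fun n => n % 5 = 1)).erase 1 = {6, 16, 21, 56, 336} by decide +kernel] at h1
  simp only [Finset.mem_insert, Finset.mem_singleton] at h1
  obtain ⟨P, e, k, hP, he1, hed, hek, hN, hC⟩ :=
    prime_order_setup hG (p := 5) (m := 336) (by rw [hn]) (by norm_num) rfl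
  have he4 : e ≤ 4 := Nat.le_of_dvd (by norm_num) hed
  have hkodd : ¬ 2 ∣ k := by
    intro h2
    obtain ⟨y, hy, hy2⟩ := exists_mem_of_dvd (q := 2) (centralizer ((P : Subgroup G) : Set G))
      (hC ▸ dvd_mul_of_dvd_right h2 5)
    have := card_dvd_of_le (le_centralizer_singleton P hy)
    rw [h16 y hy2, hP] at this
    norm_num at this
  obtain ⟨rfl, rfl⟩ : e = 2 ∧ k = 3 := by
    rcases h1 with h1 | h1 | h1 | h1 | h1 <;> rw [h1] at hek
    · have h3 := card_normalizer_of_succ hG (p := 5) (by norm_num) P hP h1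
      rw [hN, show e * (5 * k) = 5 * (e * k) by ring, show e * k = 56 by omega] at h3
      norm_num at h3
    all_goals interval_cases e <;> omega
  obtain ⟨y, hy, hy3⟩ := exists_mem_of_dvd (q := 3) (centralizer ((P : Subgroup G) : Set G))
    (by rw [hC]; norm_num)
  set C := centralizer ((P : Subgroup G) : Set G)
  have hqC : ∀ R : Sylow 3 C, Nat.card ((R : Subgroup C)) = 3 := fun R =>
    (card_sylow_subgroup (k := 1) (m := 5) (by rw [hC]; norm_num) (by norm_num) R).trans (pow_one 3)
  have huC : Nat.card (Sylow 3 C) = 1 := by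
    have h := card_sylow_mem (G := C) (p := 3) (k := 1) (m := 5) (by rw [hC]; norm_num) (by norm_num)
    have key : ∀ n ∈ (5 : ℕ).divisors.filter (fun n => n % 3 = 1), n = 1 := by decide +kernel
    exact key _ h
  have hle := card_dvd_of_le (mem_normalizer_zpowers P hy hy3 huC hqC)
  rw [hN] at hle
  have hq : ∀ R : Sylow 3 G, Nat.card (R : Subgroup G) = 3 := fun R =>
    (card_sylow_subgroup (k := 1) (m := 560) (by rw [hn]; norm_num) (by norm_num) R).trans (pow_one 3)
  obtain ⟨R, hR⟩ := TwoClass.exists_zpowers hy3 hq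
  obtain ⟨e', k', he1', hed', hN', hC'⟩ := exists_e hG R (hq R)
  rw [hR, hN'] at hle
  obtain rfl : e' = 2 := by have := Nat.le_of_dvd (by norm_num) hed'; interval_cases e' <;> omega
  have hk2 : ¬ 2 ∣ k' := by
    intro h2
    obtain ⟨s, hs, hs2⟩ := exists_mem_of_dvd (q := 2) (centralizer ((R : Subgroup G) : Set G))
      (hC' ▸ dvd_mul_of_dvd_right h2 3)
    have := card_dvd_of_le (le_centralizer_singleton R hs)
    rw [h16 s hs2, hq R] at this
    norm_num at this
  have hm3 := card_normalizer_mul R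
  rw [hn, hN'] at hm3
  obtain ⟨j, rfl⟩ : 5 ∣ k' := Nat.Coprime.dvd_of_dvd_mul_left (by norm_num : Nat.Coprime 5 6)
    ((Dvd.intro 6 rfl : 5 ∣ 2 * (5 * 3)).trans (hle.trans (dvd_of_eq (by ring : 2 * (3 * k') = 6 * k'))))
  have h3 := sylow_count hG (p := 3) (k := 1) (m := 560) (by rw [hn]; norm_num) (by norm_num) (by norm_num)
  have key : ∀ n ∈ ((560 : ℕ).divisors.filter (fun n => n % 3 = 1)).erase 1, ∀ j ∈ Finset.range 57,
      n * (30 * j) = 1680 → 2 ∣ j := by decide +kernel
  refine hk2 (dvd_mul_of_dvd_right (key _ h3 j (Finset.mem_range.mpr ?_) (by rw [← hm3]; ring)) 5)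
  have hn1 : 1 ≤ Nat.card (Sylow 3 G) := Nat.card_pos
  nlinarith

theorem ne_3360 (hn : Nat.card G = 3360) : False := by
  cases nonempty_fintype G
  have : Fact (Nat.Prime 7) := ⟨by norm_num⟩
  have : Fact (Nat.Prime 5) := ⟨by norm_num⟩
  have : Fact (Nat.Prime 3) := ⟨Nat.prime_three⟩
  have : Fact (Nat.Prime 2) := ⟨Nat.prime_two⟩
  have h7 := sylow_count hG (p := 7) (k := 1) (m := 480) (by rw [hn]; norm_num) (by norm_num) (by norm_num)
  rw [show ((Nat.divisors 480).filter (fun n => n % 7 = 1)).erase 1 = {8, 15, 120} by decide +kernel] at h7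
  simp only [Finset.mem_insert, Finset.mem_singleton] at h7
  obtain ⟨Q, e, k, hQ, he1, hed, hek, hNQ, hCQ⟩ :=
    prime_order_setup hG (p := 7) (m := 480) (by rw [hn]) (by norm_num) rfl
  have he6 : e ≤ 6 := Nat.le_of_dvd (by norm_num) hed
  obtain ⟨h120, rfl, rfl⟩ : Nat.card (Sylow 7 G) = 120 ∧ e = 2 ∧ k = 2 := by
    rcases h7 with h1 | h1 | h1 <;> rw [h1] at hek ⊢
    · have h3 := card_normalizer_of_succ hG (p := 7) (by norm_num) Q hQ h1
      rw [hNQ, show e * (7 * k) = 7 * (e * k) by ring, show e * k = 60 by omega] at h3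
      norm_num at h3
    · exfalso
      obtain ⟨y, hy, hy2⟩ := exists_mem_of_dvd (q := 2) (centralizer ((Q : Subgroup G) : Set G))
        (by rw [hCQ]; interval_cases e <;> omega)
      obtain ⟨f, -, h7, hlt, -, h4⟩ := exists_fixed hG Q hQ hy hy2
      have := h4 rfl
      omega
    · interval_cases e <;> omega
  obtain ⟨t, ht, ht2⟩ := exists_mem_of_dvd (q := 2) (centralizer ((Q : Subgroup G) : Set G))
    (by rw [hCQ]; norm_num)
  have h1 := sylow_count hG (p := 5) (k := 1) (m := 672) (by rw [hn]; norm_num) (by norm_num) (by norm_num)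
  rw [show ((Nat.divisors 672).filter (fun n => n % 5 = 1)).erase 1 = {6, 16, 21, 56, 96, 336} by
    decide +kernel] at h1
  simp only [Finset.mem_insert, Finset.mem_singleton] at h1
  obtain ⟨P, e, k, hP, he1, hed, hek, hN, hC⟩ :=
    prime_order_setup hG (p := 5) (m := 672) (by rw [hn]) (by norm_num) rfl
  have he4 : e ≤ 4 := Nat.le_of_dvd (by norm_num) hed
  rcases h1 with h1 | h1 | h1 | h1 | h1 | h1 <;> rw [h1] at hek
  · have h3 := card_normalizer_of_succ hG (p := 5) (by norm_num) P hP h1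
    rw [hN, show e * (5 * k) = 5 * (e * k) by ring, show e * k = 112 by omega] at h3
    norm_num at h3
  · obtain ⟨rfl, rfl⟩ : e = 2 ∧ k = 21 := by interval_cases e <;> omega
    obtain ⟨z, hz, hz7⟩ := exists_mem_of_dvd (q := 7) (centralizer ((P : Subgroup G) : Set G))
      (by rw [hC]; norm_num)
    have hq : ∀ R : Sylow 7 G, Nat.card (R : Subgroup G) = 7 := fun R =>
      (card_sylow_subgroup (k := 1) (m := 480) (by rw [hn]; norm_num) (by norm_num) R).trans (pow_one 7)
    obtain ⟨R, hR⟩ := exists_dvd_centralizer P hP hq hz hz7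
    obtain ⟨e', k', he1', hed', hN', hC'⟩ := exists_e hG R (hq R)
    have he6' : e' ≤ 6 := Nat.le_of_dvd (by norm_num) hed'
    have hm := card_normalizer_mul R
    rw [hn, hN', h120] at hm
    rw [hC'] at hR
    have hk' : e' * k' = 4 := by
      have : 840 * (e' * k') = 840 * 4 := by rw [← show 120 * (e' * (7 * k')) = 840 * (e' * k') by ring, hm]
      omega
    obtain rfl : k' = 2 := by interval_cases e' <;> omega
    norm_num at hR
  · have hy7 : ∀ g : G, g ∈ normalizer ((P : Subgroup G) : Set G) → orderOf g ≠ 7 := by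
      intro g hg h
      have := Subgroup.orderOf_dvd_natCard _ hg
      rw [h, hN, show e * (5 * k) = 5 * (e * k) by ring, show e * k = 32 by omega] at this
      norm_num at this
    set N := normalizer ((P : Subgroup G) : Set G) with hNdef
    obtain ⟨y, hy, hy7'⟩ := exists_mem_of_dvd (q := 7) (Q : Subgroup G) (by rw [hQ])
    have hcomm : Commute t y := (mem_centralizer_iff.mp ht y hy).symm
    have hmod := card_fixed_common N hcomm hy7'
    have hempty : IsEmpty ↥(MulAction.fixedBy (G ⧸ N) t ∩ MulAction.fixedBy (G ⧸ N) y) := by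
      refine ⟨fun c => ?_⟩
      obtain ⟨g, hg⟩ := QuotientGroup.mk_surjective c.1
      have hm := c.2.2
      rw [← hg, mem_fixedBy_coe_iff] at hm
      refine hy7 _ hm ?_
      have he : g⁻¹ * y * g = MulAut.conj g⁻¹ y := by simp [MulAut.conj_apply]
      rw [he, MulEquiv.orderOf_eq, hy7']
    rw [Nat.card_eq_zero.mpr (Or.inl hempty)] at hmod
    have h4 := card_fixedBy_mod_four hG N (s := t) (by rw [← pow_two, ← ht2, pow_orderOf_eq_one])
    have hlt := card_fixedBy_lt N (normalizer_ne_top hG (hP ▸ card_subgroup_dvd_card _) P) (x := t)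
      (fun h => by rw [h, orderOf_one] at ht2; omega)
    have hidx : N.index = 21 := P.card_eq_index_normalizer.symm.trans h1
    rw [hidx] at h4 hlt
    omega
  · -- fifty-six
    obtain ⟨y, hy, hy3⟩ := exists_mem_of_dvd (q := 3) (centralizer ((P : Subgroup G) : Set G))
      (by rw [hC]; interval_cases e <;> omega)
    set C := centralizer ((P : Subgroup G) : Set G) with hCdef
    have hk36 : k = 3 ∨ k = 6 := by interval_cases e <;> omega
    have hqC : ∀ R : Sylow 3 C, Nat.card ((R : Subgroup C)) = 3 := fun R =>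
      (card_sylow_subgroup (k := 1) (m := 5 * k / 3) (by rw [hC]; rcases hk36 with rfl | rfl <;> norm_num)
        (by rcases hk36 with rfl | rfl <;> norm_num) R).trans (pow_one 3)
    have huC : Nat.card (Sylow 3 C) = 1 := by
      obtain ⟨R⟩ : Nonempty (Sylow 3 C) := inferInstance
      have hsub : (P : Subgroup G).subgroupOf C ≤ normalizer ((R : Subgroup C) : Set C) := by
        refine le_trans (fun a ha => ?_) (centralizer_le_normalizer _)
        refine mem_centralizer_iff.mpr fun b _ => Subtype.ext ?_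
        exact (mem_centralizer_iff.mp b.2 _ (mem_subgroupOf.mp ha)).symm
      have h5 := card_dvd_of_le hsub
      rw [Nat.card_congr (subgroupOfEquivOfLe (OrdersMid.le_centralizer_self P hP)).toEquiv, hP] at h5
      have h3 : 3 ∣ Nat.card (normalizer ((R : Subgroup C) : Set C)) :=
        (dvd_of_eq (hqC R).symm).trans (card_dvd_of_le le_normalizer)
      obtain ⟨j, hj⟩ := Nat.Coprime.mul_dvd_of_dvd_of_dvd (by norm_num : Nat.Coprime 3 5) h3 h5
      have hm := card_normalizer_mul R
      rw [hj, hC] at hm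
      have hmod : Nat.card (Sylow 3 C) % 3 = 1 := card_sylow_modEq_one 3 C
      have hj0 : j ≠ 0 := fun h => by
        simp only [h, mul_zero] at hm
        omega
      have hle : Nat.card (Sylow 3 C) * j ≤ 2 := by rcases hk36 with rfl | rfl <;> nlinarith
      have := Nat.le_mul_of_pos_right (Nat.card (Sylow 3 C)) (Nat.pos_of_ne_zero hj0)
      omega
    have hle := card_dvd_of_le (mem_normalizer_zpowers P hy hy3 huC hqC)
    rw [hN] at hle
    have hq : ∀ R : Sylow 3 G, Nat.card (R : Subgroup G) = 3 := fun R =>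
      (card_sylow_subgroup (k := 1) (m := 1120) (by rw [hn]; norm_num) (by norm_num) R).trans (pow_one 3)
    obtain ⟨R, hR⟩ := TwoClass.exists_zpowers hy3 hq
    obtain ⟨e', k', he1', hed', hN', hC'⟩ := exists_e hG R (hq R)
    rw [hR, hN', show e * (5 * k) = 60 by rw [show e * (5 * k) = 5 * (e * k) by ring, show e * k = 12 by omega]]
      at hle
    obtain rfl : e' = 2 := by have := Nat.le_of_dvd (by norm_num) hed'; interval_cases e' <;> omega
    have hm3 := card_normalizer_mul R
    rw [hn, hN'] at hm3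
    have h3 := sylow_count hG (p := 3) (k := 1) (m := 1120) (by rw [hn]; norm_num) (by norm_num) (by norm_num)
    obtain ⟨j, rfl⟩ : 10 ∣ k' := by omega
    have hn28 : Nat.card (Sylow 3 G) = 28 ∧ j = 2 := by
      have he := embeds hG (p := 3) (by rw [hn]; norm_num)
      rw [hn] at he
      have key : ∀ n ∈ ((1120 : ℕ).divisors.filter (fun n => n % 3 = 1)).erase 1, ∀ j ∈ Finset.range 57,
          n * (60 * j) = 3360 → 2 * 3360 ∣ n.factorial → n = 28 ∧ j = 2 := by decide +kernel
      have hn1 : 1 ≤ Nat.card (Sylow 3 G) := Nat.card_pos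
      exact key _ h3 j (Finset.mem_range.mpr (by nlinarith)) (by rw [← hm3]; ring) he
    obtain ⟨-, rfl⟩ := hn28
    have hCy : Nat.card (centralizer ({y} : Set G)) = 60 := by
      rw [← TwoClass.centralizer_zpowers, hR, hC']
    obtain ⟨n, h, hn5, hnlt, hh, hH, h15, hhN, -⟩ := centralizer_shape hG (by norm_num) P hP hy hy3
    have hn1 : n = 1 := by
      obtain ⟨j, rfl⟩ := h15
      rw [hCy] at hH
      have : n ∣ 4 := ⟨j, by linarith⟩
      have key : ∀ n ∈ (4 : ℕ).divisors, n % 5 = 1 → n = 1 := by decide +kernel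
      exact key n (Nat.mem_divisors.mpr ⟨this, by norm_num⟩) hn5
    rw [hn1, one_mul, hh] at hH
    have hyN : centralizer ({y} : Set G) ≤ normalizer ((P : Subgroup G) : Set G) :=
      inf_eq_left.mp (eq_of_le_of_card_ge inf_le_left hH.le)
    have hNN : normalizer ((zpowers y : Subgroup G) : Set G) ≤ normalizer ((P : Subgroup G) : Set G) := by
      intro g hg
      obtain ⟨a, ha, ha5⟩ := exists_mem_of_dvd (q := 5) (P : Subgroup G) (by rw [hP])
      have hz := (TwoClass.zpowers_eq_sylow P hP ha (fun h => by rw [h, orderOf_one] at ha5; omega)).2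
      have hb5 : orderOf (g * a * g⁻¹) = 5 := ((MulAut.conj g).orderOf_eq a).trans ha5
      have hb : g * a * g⁻¹ ∈ normalizer ((P : Subgroup G) : Set G) := by
        refine hyN (mem_centralizer_singleton_iff.mpr ?_)
        obtain ⟨i, hi⟩ := mem_zpowers_iff.mp ((mem_normalizer_iff.mp (inv_mem hg) y).mp (mem_zpowers y))
        rw [inv_inv] at hi
        have hay : Commute a y := mem_centralizer_iff.mp hy a ha
        have h' : Commute a (g⁻¹ * y * g) := hi ▸ hay.zpow_right i
        calc g * a * g⁻¹ * y = g * (a * (g⁻¹ * y * g)) * g⁻¹ := by group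
          _ = g * ((g⁻¹ * y * g) * a) * g⁻¹ := by rw [h'.eq]
          _ = y * (g * a * g⁻¹) := by group
      have hbz := CosetFixed.zpowers_eq P hP hb5 hb
      rw [mem_normalizer_iff]
      intro z
      constructor
      · intro hzP
        rw [← hz] at hzP
        obtain ⟨i, rfl⟩ := mem_zpowers_iff.mp hzP
        rw [← hbz, ← conj_zpow]
        exact zpow_mem (mem_zpowers _) i
      · intro hzP
        rw [← hbz] at hzP
        obtain ⟨i, hi⟩ := mem_zpowers_iff.mp hzP
        rw [conj_zpow] at hi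
        exact (mul_left_cancel (mul_right_cancel hi)) ▸ zpow_mem ha i
    have hd := card_dvd_of_le hNN
    rw [hR, hN', hN, show e * (5 * k) = 60 by rw [show e * (5 * k) = 5 * (e * k) by ring, show e * k = 12 by omega]]
      at hd
    norm_num at hd
  · interval_cases e <;> omega
  · obtain ⟨rfl, rfl⟩ : e = 2 ∧ k = 1 := by interval_cases e <;> omega
    obtain ⟨d, hd2, hd, hd', hdd, hcong, hall⟩ :=
      inverted (G := G) hG (p := 5) (by norm_num) P hP (by rw [hN]) (by rw [hC])
    rw [hn] at hd hd' hdd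
    obtain ⟨s, hs, hs32⟩ := exists_central_involution (G := G) (a := 5) (m := 105) (by rw [hn]; norm_num)
      (by norm_num) (by norm_num)
    obtain ⟨v, hv, hv4, hconj, heq⟩ := hall s hs
    have h7C : 7 ∣ Nat.card (centralizer ({s} : Set G)) := by
      rw [card_centralizer_conj (hconj t ht2), ← hQ]
      exact card_dvd_of_le (le_centralizer_singleton Q ht)
    have key : ∀ d ∈ Finset.range 58, 2 ≤ d → d ∣ 3360 → d + 1 ∣ 3360 →
        ((5 : ℤ) ∣ (d : ℤ) - 1 ∨ (5 : ℤ) ∣ (d : ℤ) + 2) → d = 3 ∨ d = 6 := by decide +kernel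
    have key2 : ∀ C ∈ (3360 : ℕ).divisors, 32 ∣ C → 7 ∣ C → ∀ d ∈ ({3, 6} : Finset ℕ), ∀ j ∈ Finset.range 13,
        |(j : ℤ) - 6| < (d : ℤ) →
        (3360 : ℤ) * ((d : ℤ) - ((j : ℤ) - 6)) ^ 2 ≠ 5 * (C : ℤ) ^ 2 * d * (d + 1) := by decide +kernel
    have hd' := key d (Finset.mem_range.mpr (by nlinarith)) hd2 hd hd' hcong
    have hvlt := abs_lt.mp hv
    have hj : ((v + 6).toNat : ℤ) - 6 = v := by rcases hd' with rfl | rfl <;> omega
    refine key2 _ (Nat.mem_divisors.mpr ⟨hn ▸ card_subgroup_dvd_card _, by norm_num⟩) (by simpa using hs32) h7C d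
      (by simpa using hd') (v + 6).toNat (Finset.mem_range.mpr (by rcases hd' with rfl | rfl <;> omega))
      (by rw [hj]; exact hv) ?_
    rw [hj]
    rw [hn] at heq
    exact_mod_cast heq

end CfsgLib.SmallGroups.OrdersLow
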